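import Cfsg.Agent.FusionRankTwo.Frame
import Cfsg.Agent.OddOrder.BG4.Basic

/-!
# Elementary lemmas for essential subgroups in rank two
-/

set_option autoImplicit false
set_option linter.style.haveILetI false

namespace CfsgLib.FusionRankTwo

open Cfsg Cfsg.FusionSystem CfsgLib.Fusion CfsgLib.FusionEssential

variable {Ω : Type*} [Group Ω] {S : Subgroup Ω} {F : FusionSystem S} {H : Subgroup Ω} {p : ℕ}

/-- An essential subgroup has a proper normalizer. -/
theorem exists_normalizer_not_mem [Finite S] [Fact p.Prime] (hS : IsPGroup p S)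
    (hF : F.IsSaturated p) (hess : F.IsEssential p H) : ∃ x : normalizerIn S H, (x : Ω) ∉ H := by
  by_contra h
  push Not at h
  obtain ⟨hauto, -⟩ := automized_receptive hS hF hess.2.1
  obtain ⟨T, hT⟩ := hauto.2
  obtain ⟨hn, E, hE⟩ := hess.2.2
  haveI := finite_of_le hess.1.1
  haveI := hn
  have hle : (T : Subgroup (F.autGroup H)) ≤ (Inn H).subgroupOf (F.autGroup H) := by
    intro α hα
    obtain ⟨g, hg, hgN, hgα⟩ := mem_autInducedBy_iff.1 (hT.le hα)
    exact ⟨⟨g, h ⟨g, hg, hgN⟩⟩, MulEquiv.ext fun y => Subtype.ext (hgα y).symm⟩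
  have h1 : p ∣ ((Inn H).subgroupOf (F.autGroup H)).index := by
    rw [Subgroup.index_eq_card]; exact hE.1
  exact T.not_dvd_index (h1.trans (Subgroup.index_dvd_of_le hle))

theorem dvd_of_pow_eq_one {G : Type*} [Group G] [hp : Fact p.Prime] {e : G} (he : e ≠ 1)
    (hep : e ^ p = 1) {n : ℕ} (hn : e ^ n = 1) : p ∣ n :=
  orderOf_eq_prime hep he ▸ orderOf_dvd_of_pow_eq_one hn

theorem pow_congr {G : Type*} [Group G] {e : G} (hep : e ^ p = 1) {m n : ℕ}
    (h : (m : ZMod p) = n) : e ^ m = e ^ n :=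
  pow_eq_pow_iff_modEq.2
    ((ZMod.natCast_eq_natCast_iff _ _ _).1 h |>.of_dvd (orderOf_dvd_of_pow_eq_one hep))

/-- Powers of a product whose commutator commutes with both factors. -/
theorem mul_pow_comm {G : Type*} [Group G] {x y z : G} (hyx : y * x = x * y * z)
    (hzx : Commute z x) (hzy : Commute z y) (k : ℕ) :
    (x * y) ^ k = x ^ k * y ^ k * z ^ k.choose 2 := by
  have hyk : ∀ j : ℕ, y ^ j * x = x * y ^ j * z ^ j := by
    intro j
    induction j with
    | zero => simp
    | succ j ih =>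
      calc y ^ (j + 1) * x = y ^ j * (y * x) := by rw [pow_succ, mul_assoc]
        _ = (y ^ j * x) * (y * z) := by rw [hyx]; simp [mul_assoc]
        _ = x * y ^ j * (z ^ j * y) * z := by rw [ih]; simp [mul_assoc]
        _ = x * y ^ (j + 1) * z ^ (j + 1) := by
          rw [(hzy.pow_left j).eq, pow_succ, pow_succ]; simp [mul_assoc]
  induction k with
  | zero => simp
  | succ k ih =>
    calc (x * y) ^ (k + 1) = x ^ k * y ^ k * (z ^ k.choose 2 * x) * y := by
          rw [pow_succ, ih]; simp [mul_assoc]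
      _ = x ^ k * (y ^ k * x) * (z ^ k.choose 2 * y) := by
          rw [(hzx.pow_left _).eq]; simp [mul_assoc]
      _ = x ^ k * x * y ^ k * (z ^ k * y) * z ^ k.choose 2 := by
          rw [hyk, (hzy.pow_left (k.choose 2)).eq]; simp [mul_assoc]
      _ = x ^ (k + 1) * y ^ (k + 1) * (z ^ k * z ^ k.choose 2) := by
          rw [(hzy.pow_left k).eq, pow_succ, pow_succ]; simp [mul_assoc]
      _ = _ := by
          rw [← pow_add, Nat.choose_succ_succ' k 1, Nat.choose_one_right]

/-- A strictly larger `p`-group has at least `p` times the order. -/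
theorem mul_card_le_of_lt {G : Type*} [Group G] [Fact p.Prime] {A B : Subgroup G} [Finite B]
    (hB : IsPGroup p B) (h : A < B) : p * Nat.card A ≤ Nat.card B := by
  haveI : Finite A := Finite.of_injective _ (Subgroup.inclusion_injective h.le)
  have hp : p.Prime := Fact.out
  obtain ⟨b, hb⟩ := IsPGroup.iff_card.1 hB
  obtain ⟨a, ha⟩ := IsPGroup.iff_card.1 (hB.to_le h.le)
  have hlt : a < b := by
    by_contra hab
    refine h.ne (Subgroup.eq_of_le_of_card_ge h.le ?_)
    rw [ha, hb]
    exact Nat.pow_le_pow_right hp.pos (not_lt.1 hab)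
  rw [ha, hb, ← pow_succ']
  exact Nat.pow_le_pow_right hp.pos hlt

/-- In a `p`-group, an element normalizing a subgroup of order `p` centralizes it. -/
theorem commute_of_normalize [Finite S] [Fact p.Prime] (hS : IsPGroup p S) {M Z : Subgroup Ω}
    (hMS : M ≤ S) (hZM : Z ≤ M) (hcard : Nat.card Z = p) (hnorm : M ≤ Subgroup.normalizer (Z : Set Ω))
    {g z : Ω} (hg : g ∈ M) (hz : z ∈ Z) : g * z * g⁻¹ = z := by
  haveI := finite_of_le hMS
  haveI : (Z.subgroupOf M).Normal := Subgroup.normal_subgroupOf_of_le_normalizer hnorm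
  have h := OddOrder.BG4.le_center_of_normal_card_prime (hS.to_le hMS) (Z := Z.subgroupOf M)
    ((Nat.card_congr (Subgroup.subgroupOfEquivOfLe hZM).toEquiv).trans hcard)
    (show (⟨z, hZM hz⟩ : M) ∈ Z.subgroupOf M from hz)
  have h2 := congrArg Subtype.val (Subgroup.mem_center_iff.1 h ⟨g, hg⟩)
  rw [mul_inv_eq_iff_eq_mul]
  exact h2

end CfsgLib.FusionRankTwo
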