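import Cfsg.Agent.FusionRankTwo.ElementaryFrame
import Cfsg.Agent.FusionSimple.Sylow

/-!
# No elementary abelian essential subgroup of order `p²` in rank two, `p ≥ 5`
-/

set_option autoImplicit false
set_option linter.style.haveILetI false

namespace CfsgLib.FusionRankTwo

open Cfsg Cfsg.FusionSystem CfsgLib.Fusion CfsgLib.FusionEssential

variable {Ω : Type*} [Group Ω] {S : Subgroup Ω} {F : FusionSystem S} {H : Subgroup Ω} {p : ℕ}

theorem exists_mul_modEq [hp : Fact p.Prime] {b : ℕ} (hb : ¬ p ∣ b) :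
    ∃ t : ℕ, (b : ZMod p) * t = 1 :=
  ⟨((b : ZMod p)⁻¹).val, by
    rw [ZMod.natCast_zmod_val, mul_inv_cancel₀ (mt (ZMod.natCast_eq_zero_iff _ _).1 ?_)]
    exact hb⟩

theorem cast_eq_of_pow_eq {G : Type*} [Group G] [hp : Fact p.Prime] {e : G} (he : e ≠ 1)
    (hep : e ^ p = 1) {m n : ℕ} (h : e ^ m = e ^ n) : (m : ZMod p) = n := by
  rw [ZMod.natCast_eq_natCast_iff, ← orderOf_eq_prime hep he]
  exact pow_eq_pow_iff_modEq.1 h

theorem two_mul_half [hp : Fact p.Prime] (hp2 : p ≠ 2) : 2 * ((p + 1) / 2) = p + 1 ∧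
    ((2 : ℕ) : ZMod p) * (((p + 1) / 2 : ℕ) : ZMod p) = 1 := by
  have h : 2 * ((p + 1) / 2) = p + 1 := by
    rcases hp.out.eq_two_or_odd with h | h <;> omega
  refine ⟨h, ?_⟩
  rw [← Nat.cast_mul, h]
  simp

variable {x e f : Ω}

/-- The image of `x` under the torus. -/
theorem EFrame.exists_torus_form (d : EFrame F p H x e f) (hp2 : p ≠ 2) (hH : H ≤ S)
    {τ : normalizerIn S H →* Ω} (hmem : ∀ g, τ g ∈ normalizerIn S H)
    (hte : ∀ h : normalizerIn S H, (h : Ω) = e → τ h = e ^ 2)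
    (htf : ∀ h : normalizerIn S H, (h : Ω) = f → τ h = f ^ ((p + 1) / 2)) :
    ∃ a b : ℕ, τ ⟨x, d.hxN⟩ = x ^ 4 * (e ^ a * f ^ b) := by
  haveI := d.fp
  obtain ⟨hμ, -⟩ := two_mul_half (p := p) hp2
  set μ := (p + 1) / 2
  let fN : normalizerIn S H := ⟨f, le_normalizerIn hH d.hfH⟩
  let eN : normalizerIn S H := ⟨e, le_normalizerIn hH d.heH⟩
  let xN : normalizerIn S H := ⟨x, d.hxN⟩
  set y := τ xN with hy
  have hfμ : (f ^ μ) ^ 2 = f := by
    rw [← pow_mul, mul_comm, hμ, pow_succ, d.hfp, one_mul]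
  have h1 : y * f ^ μ * y⁻¹ = f ^ μ * e ^ 2 := by
    rw [← htf fN rfl, ← hte eN rfl, hy, ← map_inv, ← map_mul, ← map_mul, ← map_mul]
    exact congrArg τ (Subtype.ext d.hxf)
  have h2 : y * f * y⁻¹ = f * e ^ 4 := by
    have := congrArg (· ^ 2) h1
    simp only [conj_pow, hfμ] at this
    rw [this, ((show Commute e f from d.hef).symm.pow_pow μ 2).mul_pow, hfμ, ← pow_mul]
  have hye : y * e = e * y := d.commute_e (hmem xN)
  have h4 : x ^ 4 * f * (x ^ 4)⁻¹ = f * e ^ 4 := d.xpow_conj 4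
  have hw : (x ^ 4)⁻¹ * y ∈ H := by
    refine d.mem_of_commute (S.mul_mem (S.inv_mem (S.pow_mem d.hxN.1 4)) (hmem xN).1) ?_ ?_
    · exact ((((show Commute x e from d.hxe).pow_left 4).inv_left).mul_left hye).eq.symm
    · calc f * ((x ^ 4)⁻¹ * y) = (x ^ 4)⁻¹ * (x ^ 4 * f * (x ^ 4)⁻¹) * y := by simp [mul_assoc]
        _ = (x ^ 4)⁻¹ * (y * f * y⁻¹) * y := by rw [h4, h2]
        _ = _ := by simp [mul_assoc]
  obtain ⟨a, b, hab⟩ := d.span _ hw
  exact ⟨a, b, by rw [← hab, mul_inv_cancel_left]⟩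

variable [Finite S] [Fact p.Prime]

/-- No elementary abelian essential subgroup of order `p²` in rank two, `p ≥ 5`. -/
theorem elementary_false (hS : IsPGroup p S) (hF : F.IsSaturated p) (hp5 : 5 ≤ p)
    (hrank3 : ∀ E : Subgroup Ω, E ≤ S → Cfsg.IsElementaryAbelian p E → Nat.card E ≤ p ^ 2)
    (hnotE : ¬ (Nat.card S = p ^ 3 ∧ Monoid.exponent ↥S = p))
    (hess : F.IsEssential p H) (hc : ∀ a b : H, a * b = b * a) (hexp : ∀ a : H, a ^ p = 1)
    (hd : Nat.card H = p ^ 2) : False := by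
  have hp : p.Prime := Fact.out
  have hp2 : p ≠ 2 := by omega
  have hH := hess.1.1
  have hfin := finite_of_le hH
  set N := normalizerIn S H with hNdef
  have hNS : N ≤ S := normalizerIn_le S H
  have hfinN := finite_of_le hNS
  have hHN : H ≤ N := le_normalizerIn hH
  set μ := (p + 1) / 2 with hμdef
  obtain ⟨hμ, hμ1⟩ := two_mul_half (p := p) hp2
  have hexp' : ∀ v ∈ H, v ^ p = 1 := fun v hv => congrArg Subtype.val (hexp ⟨v, hv⟩)
  -- `N` has exponent `p`
  have hNexp : ∀ y ∈ N, y ^ p = 1 := by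
    intro y hyN
    by_cases hyH : y ∈ H
    · exact hexp' y hyH
    obtain ⟨e, f, d, htor⟩ := exists_eFrame hS hF hess hc hexp hd hyN hyH
    obtain ⟨τ, -, hmem, hte, htf⟩ := htor 2 μ hμ1
    obtain ⟨a, b, hτy⟩ := d.exists_torus_form hp2 hH hmem hte htf
    have hypH : y ^ p ∈ H := d.mem_of_commute (S.pow_mem hyN.1 p)
      ((show Commute y e from d.hxe).pow_left p).eq.symm (by
        have h := mul_inv_eq_iff_eq_mul.1 (d.xpow_conj p)
        rw [d.hep, mul_one] at h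
        exact h.symm)
    obtain ⟨r, hr⟩ := d.mem_zpowers_of_commute hypH (Commute.self_pow y p).eq
    set w := e ^ a * f ^ b with hw
    have hwH : w ∈ H := H.mul_mem (H.pow_mem d.heH a) (H.pow_mem d.hfH b)
    have hwe : Commute e w :=
      ((Commute.refl e).pow_right a).mul_right ((show Commute e f from d.hef).pow_right b)
    have h4 : y ^ 4 * w * (y ^ 4)⁻¹ = w * (e ^ 4) ^ b := by
      have hyea : Commute (y ^ 4) (e ^ a) := (show Commute y e from d.hxe).pow_pow 4 a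
      calc y ^ 4 * w * (y ^ 4)⁻¹
          = (y ^ 4 * e ^ a * (y ^ 4)⁻¹) * (y ^ 4 * f ^ b * (y ^ 4)⁻¹) := by
            rw [hw]; simp [mul_assoc]
        _ = _ := by
          rw [hyea.eq, mul_inv_cancel_right, ← conj_pow, d.xpow_conj,
            ((show Commute f e from d.hef.symm).pow_right 4).mul_pow, hw, mul_assoc]
    have hyx : w * y ^ 4 = y ^ 4 * w * ((e ^ 4) ^ b)⁻¹ := by
      rw [mul_inv_eq_iff_eq_mul.1 h4, mul_assoc w,
        (((show Commute y e from d.hxe).pow_pow 4 4).pow_right b).eq.symm]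
      simp [mul_assoc]
    have hτp : (y ^ 4 * w) ^ p = (y ^ p) ^ 4 := by
      rw [mul_pow_comm hyx
        ((((show Commute y e from d.hxe).pow_pow 4 4).pow_right b).inv_right).symm
        ((((hwe.pow_left 4).pow_left b)).inv_left), hexp' w hwH, mul_one]
      obtain ⟨c, hc'⟩ := hp.dvd_choose_self (k := 2) (by norm_num) (by omega)
      rw [hc', pow_mul (((e ^ 4) ^ b)⁻¹), inv_pow, ← pow_mul (e ^ 4), ← pow_mul e,
        show 4 * (b * p) = p * (4 * b) by ring, pow_mul e, d.hep, one_pow, inv_one, one_pow,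
        mul_one, ← pow_mul, ← pow_mul, mul_comm]
    let eN : N := ⟨e, hHN d.heH⟩
    have heq : τ ⟨y, hyN⟩ ^ p = (e ^ 2) ^ r := by
      rw [← map_pow, ← hte eN rfl, ← map_pow]
      exact congrArg τ (Subtype.ext (by simpa using hr))
    rw [hτy, hτp, hr, ← pow_mul, ← pow_mul] at heq
    have h2 : ((2 * r : ℕ) : ZMod p) = ((0 : ℕ) : ZMod p) := by
      have := cast_eq_of_pow_eq d.he d.hep heq
      push_cast at this ⊢
      linear_combination this
    rw [ZMod.natCast_eq_natCast_iff, Nat.modEq_zero_iff_dvd] at h2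
    obtain ⟨c, rfl⟩ := (hp.dvd_mul.1 h2).resolve_left fun h =>
      hp2 ((Nat.prime_dvd_prime_iff_eq hp Nat.prime_two).1 h)
    rw [hr, pow_mul, d.hep, one_pow]
  obtain ⟨⟨x₁, hx₁N⟩, hx₁⟩ := exists_normalizer_not_mem hS hF hess
  obtain ⟨e₁, f₁, d₁, -⟩ := exists_eFrame hS hF hess hc hexp hd hx₁N hx₁
  have hlt : H < N := lt_of_le_of_ne hHN fun h => hx₁ (h.ge hx₁N)
  have hcardN : Nat.card N = p ^ 3 := by
    refine le_antisymm ?_ ?_
    · have hsurj : Function.Surjective (fun v : ZMod p × ZMod p × ZMod p =>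
          (⟨x₁ ^ v.1.val * f₁ ^ v.2.1.val * e₁ ^ v.2.2.val,
            N.mul_mem (N.mul_mem (N.pow_mem hx₁N _) (N.pow_mem (hHN d₁.hfH) _))
              (N.pow_mem (hHN d₁.heH) _)⟩ : N)) := by
        rintro ⟨g, hg⟩
        obtain ⟨j, s, r, rfl⟩ := d₁.exists_form hg
        refine ⟨((j : ZMod p), (s : ZMod p), (r : ZMod p)), Subtype.ext ?_⟩
        simp only [ZMod.val_natCast]
        rw [pow_congr (hNexp x₁ hx₁N) (ZMod.natCast_mod j p),
          pow_congr d₁.hfp (ZMod.natCast_mod s p), pow_congr d₁.hep (ZMod.natCast_mod r p)]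
      exact (Nat.card_le_card_of_surjective _ hsurj).trans (le_of_eq (by
        simp [Nat.card_prod, Nat.card_zmod, pow_succ, mul_assoc]))
    · refine le_trans (le_of_eq ?_) (mul_card_le_of_lt (hS.to_le hNS) hlt)
      rw [hd, ← pow_succ']
  have hNS' : N < S := by
    refine lt_of_le_of_ne hNS fun h => hnotE ⟨h ▸ hcardN, ?_⟩
    have hdvd : Monoid.exponent ↥S ∣ p := Monoid.exponent_dvd_of_forall_pow_eq_one fun g =>
      Subtype.ext (hNexp g (h.symm ▸ g.2 : (g : Ω) ∈ N))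
    refine ((Nat.dvd_prime hp).1 hdvd).resolve_left fun h1 => d₁.he ?_
    exact congrArg Subtype.val ((Monoid.exp_eq_one_iff.1 h1).elim (⟨e₁, hH d₁.heH⟩ : S) 1)
  set M := normalizerIn S N with hMdef
  have hMS : M ≤ S := normalizerIn_le S N
  have hfinM := finite_of_le hMS
  have hNM : N < M := lt_normalizerIn hS hNS'
  have hconjN : ∀ g ∈ M, ∀ v, v ∈ N → g * v * g⁻¹ ∈ N := fun g hg v hv =>
    (Subgroup.mem_normalizer_iff.1 hg.2 v).1 hv
  -- `⟨e₁⟩` is central in `M`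
  have hZ : Nat.card (Subgroup.zpowers e₁) = p := by
    rw [Nat.card_zpowers]; exact orderOf_eq_prime d₁.hep d₁.he
  have hfinZ := finite_of_le ((Subgroup.zpowers_le.2 (hH d₁.heH)) : Subgroup.zpowers e₁ ≤ S)
  have hMZ : M ≤ Subgroup.normalizer (Subgroup.zpowers e₁ : Set Ω) := fun g hg => by
    refine Subgroup.mem_normalizer_fintype fun v hv => ?_
    obtain ⟨k, rfl⟩ := Subgroup.mem_zpowers_iff.1 hv
    obtain ⟨r, hr⟩ := d₁.mem_zpowers_of_central (hconjN g hg e₁ (hHN d₁.heH)) (fun n hn => by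
      have hn' : g⁻¹ * n * g⁻¹⁻¹ ∈ N := hconjN g⁻¹ (M.inv_mem hg) n hn
      rw [inv_inv] at hn'
      have h := d₁.commute_e hn'
      calc n * (g * e₁ * g⁻¹) = g * ((g⁻¹ * n * g) * e₁) * g⁻¹ := by simp [mul_assoc]
        _ = g * (e₁ * (g⁻¹ * n * g)) * g⁻¹ := by rw [h]
        _ = _ := by simp [mul_assoc]) hH
    rw [SetLike.mem_coe, ← conj_zpow, hr]
    exact Subgroup.zpow_mem _ (Subgroup.pow_mem _ (Subgroup.mem_zpowers _) _) _
  have hMe₁ : ∀ g ∈ M, g * e₁ * g⁻¹ = e₁ := fun g hg =>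
    commute_of_normalize hS hMS (Subgroup.zpowers_le.2 (hNM.le (hHN d₁.heH))) hZ hMZ hg
      (Subgroup.mem_zpowers _)
  -- an element of `N` central modulo `⟨e₁⟩`
  obtain ⟨x, hxN, hxZ, hxM⟩ : ∃ x ∈ N, x ∉ Subgroup.zpowers e₁ ∧
      ∀ g ∈ M, ∃ a : ℕ, g * x * g⁻¹ = x * e₁ ^ a := by
    haveI : ((Subgroup.zpowers e₁).subgroupOf M).Normal :=
      Subgroup.normal_subgroupOf_of_le_normalizer hMZ
    haveI : (N.subgroupOf M).Normal :=
      Subgroup.normal_subgroupOf_of_le_normalizer inf_le_right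
    let q := QuotientGroup.mk' ((Subgroup.zpowers e₁).subgroupOf M)
    haveI : ((N.subgroupOf M).map q).Normal :=
      (inferInstance : (N.subgroupOf M).Normal).map q (QuotientGroup.mk'_surjective _)
    have hne : (N.subgroupOf M).map q ≠ ⊥ := fun h => by
      have h1 : q ⟨x₁, hNM.le hx₁N⟩ ∈ (N.subgroupOf M).map q := Subgroup.mem_map_of_mem q hx₁N
      rw [h, Subgroup.mem_bot] at h1
      exact hx₁ ((Subgroup.zpowers_le.2 d₁.heH) (Subgroup.mem_subgroupOf.1
        ((QuotientGroup.eq_one_iff (⟨x₁, hNM.le hx₁N⟩ : M)).1 h1)))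
    obtain ⟨w, hwN, hwc, hwo⟩ :=
      OddOrder.BG4.exists_central_orderOf_prime ((hS.to_le hMS).to_quotient _) hne
    obtain ⟨⟨x, hxM'⟩, hxN, rfl⟩ := hwN
    refine ⟨x, hxN, fun h => ?_, fun g hg => ?_⟩
    · rw [show q ⟨x, hxM'⟩ = 1 from (QuotientGroup.eq_one_iff _).2 h, orderOf_one] at hwo
      exact hp.ne_one hwo.symm
    · have h := Subgroup.mem_center_iff.1 hwc (q ⟨g, hg⟩)
      rw [← map_mul, ← map_mul] at h
      have h' : x⁻¹ * (g * x * g⁻¹) ∈ Subgroup.zpowers e₁ := by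
        have h2 := QuotientGroup.eq.1 h.symm
        rw [Subgroup.mem_subgroupOf] at h2
        have h3 := (Subgroup.mem_normalizer_iff.1 (hMZ hg) _).1 h2
        simpa [mul_assoc] using h3
      obtain ⟨a, ha⟩ := (((Subgroup.zpowers_le.2 (hH d₁.heH) : _ ≤ S) |> fun hle =>
        isOfFinOrder_iff_pow_eq_one.2 ⟨p, hp.pos, d₁.hep⟩)).mem_powers_iff_mem_zpowers.2 h'
      exact ⟨a, by rw [show e₁ ^ a = _ from ha]; simp [mul_assoc]⟩
  have hxH : x ∉ H := by
    intro hxH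
    obtain ⟨r, s, rfl⟩ := d₁.span x hxH
    by_cases hs : p ∣ s
    · obtain ⟨c, rfl⟩ := hs
      exact hxZ (by rw [pow_mul f₁, d₁.hfp, one_pow, mul_one]
                    exact Subgroup.pow_mem _ (Subgroup.mem_zpowers _) _)
    obtain ⟨t, ht⟩ := exists_mul_modEq hs
    refine hNM.not_ge fun g hg => ⟨hMS hg, Subgroup.mem_normalizer_fintype fun v hv => ?_⟩
    obtain ⟨a, ha⟩ := hxM g hg
    have hfs : g * f₁ ^ s * g⁻¹ = f₁ ^ s * e₁ ^ a := by
      have he : g * e₁ ^ r * g⁻¹ = e₁ ^ r := by rw [← conj_pow, hMe₁ g hg]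
      have : (g * e₁ ^ r * g⁻¹) * (g * f₁ ^ s * g⁻¹) = e₁ ^ r * f₁ ^ s * e₁ ^ a := by
        rw [← ha]; simp [mul_assoc]
      rw [he] at this
      simp only [mul_assoc, mul_left_cancel_iff] at this ⊢
      exact this
    have hf : g * f₁ * g⁻¹ ∈ H := by
      have hfst : f₁ = (f₁ ^ s) ^ t := by
        rw [← pow_mul]
        nth_rw 1 [← pow_one f₁]
        exact pow_congr d₁.hfp (by push_cast; exact ht.symm)
      rw [hfst, ← conj_pow, hfs]
      exact H.pow_mem (H.mul_mem (H.pow_mem d₁.hfH _) (H.pow_mem d₁.heH _)) _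
    obtain ⟨i, j, rfl⟩ := d₁.span v hv
    rw [show g * (e₁ ^ i * f₁ ^ j) * g⁻¹ = (g * e₁ ^ i * g⁻¹) * (g * f₁ ^ j * g⁻¹) by
      simp [mul_assoc], ← conj_pow, hMe₁ g hg, ← conj_pow]
    exact H.mul_mem (H.pow_mem d₁.heH _) (H.pow_mem hf _)
  obtain ⟨e, f, d, htor⟩ := exists_eFrame hS hF hess hc hexp hd hxN hxH
  obtain ⟨c₁, hc₁⟩ := d₁.mem_zpowers_of_central (hHN d.heH) (fun g hg => d.commute_e hg) hH
  have hMe : ∀ g ∈ M, g * e * g⁻¹ = e := fun g hg => by rw [hc₁, ← conj_pow, hMe₁ g hg]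
  have hMex : ∀ g ∈ M, ∀ n : ℕ, g * e ^ n * g⁻¹ = e ^ n := fun g hg n => by
    rw [← conj_pow, hMe g hg]
  have hMx : ∀ g ∈ M, ∃ a : ℕ, g * x * g⁻¹ = x * e ^ a := by
    intro g hg
    obtain ⟨a, ha⟩ := hxM g hg
    obtain ⟨c, hc'⟩ := d.mem_zpowers_of_central (hHN d₁.heH) (fun n hn => d₁.commute_e hn) hH
    exact ⟨c * a, by rw [ha, hc', ← pow_mul]⟩
  have hex : Commute e x := d.hxe.symm
  have hef : Commute e f := d.hef
  -- an element of `M` moving `f` by `x`
  obtain ⟨g₀, hg₀M, hg₀N⟩ := SetLike.exists_of_lt hNM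
  obtain ⟨j, r₀, hj, hg₀f⟩ : ∃ j r₀ : ℕ, ¬ p ∣ j ∧ g₀ * f * g₀⁻¹ = x ^ j * f * e ^ r₀ := by
    obtain ⟨j, s, r, hjsr⟩ := d.exists_form (hconjN g₀ hg₀M f (hHN d.hfH))
    obtain ⟨a, ha⟩ := hMx g₀ hg₀M
    have h1 : (g₀ * x * g₀⁻¹) * (g₀ * f * g₀⁻¹) * (g₀ * x * g₀⁻¹)⁻¹ =
        (g₀ * f * g₀⁻¹) * e := by
      calc _ = g₀ * (x * f * x⁻¹) * g₀⁻¹ := by simp [mul_assoc]
        _ = g₀ * (f * e) * g₀⁻¹ := by rw [d.hxf]
        _ = (g₀ * f * g₀⁻¹) * (g₀ * e * g₀⁻¹) := by simp [mul_assoc]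
        _ = _ := by rw [hMe g₀ hg₀M]
    have hFe : Commute (e ^ a) (x ^ j * f ^ s * e ^ r) :=
      ((hex.pow_pow a j).mul_right (hef.pow_pow a s)).mul_right
        ((Commute.refl e).pow_pow a r)
    rw [ha, hjsr, mul_inv_rev] at h1
    have h2 : x * (x ^ j * f ^ s * e ^ r) * x⁻¹ = x ^ j * f ^ s * e ^ r * e := by
      rw [← h1]
      calc _ = x * ((e ^ a * (x ^ j * f ^ s * e ^ r)) * (e ^ a)⁻¹) * x⁻¹ := by
            rw [hFe.eq, mul_inv_cancel_right]
        _ = _ := by simp [mul_assoc]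
    have h3 : x * (x ^ j * f ^ s * e ^ r) * x⁻¹ = x ^ j * f ^ s * e ^ r * e ^ s := by
      calc _ = x ^ j * (x * f ^ s * x⁻¹) * (x * e ^ r * x⁻¹) := by
            rw [← mul_assoc (x ^ j) (x * f ^ s), ← mul_assoc (x ^ j) x, ← pow_succ, pow_succ']
            simp [mul_assoc]
        _ = _ := by
            rw [← conj_pow, d.hxf, hef.symm.mul_pow, ← (hex.pow_left r).eq,
              mul_inv_cancel_right]
            simp only [mul_assoc, ← pow_add, add_comm]
    rw [h3, mul_left_cancel_iff] at h2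
    have hs : (s : ZMod p) = ((1 : ℕ) : ZMod p) :=
      cast_eq_of_pow_eq d.he d.hep (h2.trans (pow_one e).symm)
    have hfs : f ^ s = f := (pow_congr d.hfp hs).trans (pow_one f)
    rw [hfs] at hjsr
    refine ⟨j, r, fun hj => hg₀N ⟨hMS hg₀M, Subgroup.mem_normalizer_fintype fun v hv => ?_⟩,
      hjsr⟩
    obtain ⟨c, rfl⟩ := hj
    rw [pow_mul x, hNexp x hxN, one_pow, one_mul] at hjsr
    obtain ⟨i, k, rfl⟩ := d.span v hv
    rw [show g₀ * (e ^ i * f ^ k) * g₀⁻¹ = (g₀ * e ^ i * g₀⁻¹) * (g₀ * f ^ k * g₀⁻¹) by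
      simp [mul_assoc], ← conj_pow, hMe g₀ hg₀M, ← conj_pow, hjsr]
    exact H.mul_mem (H.pow_mem d.heH _) (H.pow_mem (H.mul_mem d.hfH (H.pow_mem d.heH _)) _)
  obtain ⟨a₀, hg₀x⟩ := hMx g₀ hg₀M
  have hiter : ∀ n : ℕ, ∃ r, g₀ ^ n * f * (g₀ ^ n)⁻¹ = x ^ (n * j) * f * e ^ r := by
    intro n
    induction n with
    | zero => exact ⟨0, by simp⟩
    | succ n ih =>
      obtain ⟨r, hr⟩ := ih
      refine ⟨a₀ * (n * j) + r₀ + r, ?_⟩
      calc _ = g₀ * (g₀ ^ n * f * (g₀ ^ n)⁻¹) * g₀⁻¹ := by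
            rw [pow_succ' g₀, mul_inv_rev]; simp [mul_assoc]
        _ = (g₀ * x * g₀⁻¹) ^ (n * j) * (g₀ * f * g₀⁻¹) * (g₀ * e ^ r * g₀⁻¹) := by
            rw [hr, conj_pow]; simp [mul_assoc]
        _ = x ^ (n * j) * (e ^ (a₀ * (n * j)) * x ^ j) * f * e ^ r₀ * e ^ r := by
            rw [hg₀x, hMex g₀ hg₀M, hg₀f, ((hex.symm).pow_right a₀).mul_pow, ← pow_mul]
            simp [mul_assoc]
        _ = _ := by
            rw [(hex.pow_pow _ _).eq, mul_assoc (x ^ (n * j)), mul_assoc (x ^ j),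
              (hef.pow_left _).eq]
            simp only [mul_assoc, ← pow_add]
            rw [← mul_assoc, ← pow_add]
            congr 2
            ring
  obtain ⟨t, ht⟩ := exists_mul_modEq hj
  obtain ⟨r₁, hr₁⟩ := hiter t
  rw [pow_congr (hNexp x hxN) (show ((t * j : ℕ) : ZMod p) = ((1 : ℕ) : ZMod p) by
    push_cast; linear_combination ht), pow_one] at hr₁
  obtain ⟨a₁, ha₁⟩ := hMx (g₀ ^ t) (M.pow_mem hg₀M t)
  have hfx : ∀ a : ℕ, f ^ a * x * (f ^ a)⁻¹ = x * (e ^ a)⁻¹ := by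
    intro a
    have h : x * f ^ a * x⁻¹ = f ^ a * e ^ a := by rw [← conj_pow, d.hxf, hef.symm.mul_pow]
    rw [mul_inv_eq_iff_eq_mul] at h
    rw [mul_inv_eq_iff_eq_mul, mul_assoc, (hef.pow_pow a a).inv_left.eq, ← mul_assoc, h,
      eq_mul_inv_iff_mul_eq, mul_assoc (f ^ a), mul_assoc (f ^ a), (hex.pow_left a).eq]
  obtain ⟨y, hyM, hyx, r, hyf⟩ : ∃ y ∈ M, Commute y x ∧
      ∃ r : ℕ, y * f * y⁻¹ = x * f * e ^ r := by
    refine ⟨f ^ a₁ * g₀ ^ t, M.mul_mem (M.pow_mem (hNM.le (hHN d.hfH)) _) (M.pow_mem hg₀M t),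
      mul_inv_eq_iff_eq_mul.1 ?_, r₁ + (p - 1) * a₁, ?_⟩
    · rw [mul_inv_rev]
      calc _ = f ^ a₁ * (g₀ ^ t * x * (g₀ ^ t)⁻¹) * (f ^ a₁)⁻¹ := by simp [mul_assoc]
        _ = (f ^ a₁ * x * (f ^ a₁)⁻¹) * e ^ a₁ := by
            rw [ha₁]
            simp only [mul_assoc]
            rw [((hef.pow_pow a₁ a₁)).inv_right.eq]
        _ = x := by rw [hfx, inv_mul_cancel_right]
    · calc _ = f ^ a₁ * (g₀ ^ t * f * (g₀ ^ t)⁻¹) * (f ^ a₁)⁻¹ := by simp [mul_assoc]
        _ = (f ^ a₁ * x * (f ^ a₁)⁻¹) * (f * e ^ r₁) := by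
            rw [hr₁]
            simp only [mul_assoc]
            rw [(hef.pow_pow r₁ a₁).inv_right.eq]
            congr 2
            rw [← mul_assoc f, ← mul_assoc (f ^ a₁)⁻¹, ((Commute.refl f).pow_right a₁).inv_right.eq]
        _ = _ := by
            rw [hfx, show (e ^ a₁)⁻¹ = e ^ ((p - 1) * a₁) from inv_eq_of_mul_eq_one_right (by
              rw [← pow_add, show a₁ + (p - 1) * a₁ = p * a₁ by
                rw [Nat.sub_mul, one_mul, Nat.add_sub_cancel' (Nat.le_mul_of_pos_left _ hp.pos)], pow_mul, d.hep, one_pow])]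
            simp only [mul_assoc]
            rw [← mul_assoc _ f, (hef.pow_left _).eq, mul_assoc, ← pow_add, add_comm]
  have hye : Commute y e := mul_inv_eq_iff_eq_mul.1 (hMe y hyM)
  have hypow : ∀ n : ℕ, y ^ n * f * (y ^ n)⁻¹ = x ^ n * f * e ^ (n * r) := by
    intro n
    induction n with
    | zero => simp
    | succ n ih =>
      calc _ = y * (y ^ n * f * (y ^ n)⁻¹) * y⁻¹ := by
            rw [pow_succ' y, mul_inv_rev]; simp [mul_assoc]
        _ = (y * x ^ n * y⁻¹) * (y * f * y⁻¹) * (y * e ^ (n * r) * y⁻¹) := by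
            rw [ih]; simp [mul_assoc]
        _ = x ^ n * (x * f * e ^ r) * e ^ (n * r) := by
            rw [hyf, hMex y hyM, (hyx.pow_right n).eq, mul_inv_cancel_right]
        _ = _ := by
            rw [pow_succ, add_mul, one_mul, add_comm, pow_add e]
            simp only [mul_assoc]
  have hyN : y ∉ N := fun h => hxH (by
    have h1 : x * f * e ^ r ∈ H := hyf ▸ (Subgroup.mem_normalizer_iff.1 h.2 f).1 d.hfH
    have := H.mul_mem (H.mul_mem h1 (H.inv_mem (H.pow_mem d.heH r))) (H.inv_mem d.hfH)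
    simpa [mul_assoc] using this)
  obtain ⟨k, hk⟩ : ∃ k : ℕ, y ^ p = e ^ k := by
    refine d.mem_zpowers_of_commute (d.mem_of_commute (S.pow_mem (hMS hyM) p)
      (hye.pow_left p).eq.symm ?_) (hyx.symm.pow_right p).eq
    have h := hypow p
    rw [hNexp x hxN, one_mul, pow_mul e, d.hep, one_pow, mul_one, mul_inv_eq_iff_eq_mul] at h
    exact h.symm
  -- the subgroup `X = ⟨e, x⟩`
  set X := Subgroup.closure ({e, x} : Set Ω) with hXdef
  have hXN : X ≤ N := (Subgroup.closure_le _).2 (by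
    rintro v (rfl | rfl)
    exacts [hHN d.heH, hxN])
  have heX : e ∈ X := Subgroup.subset_closure (by simp)
  have hxX : x ∈ X := Subgroup.subset_closure (by simp)
  have hfinX := finite_of_le (hXN.trans hNS)
  have hXcard : p ^ 2 ≤ Nat.card X := by
    refine le_trans (le_of_eq ?_) (mul_card_le_of_lt (hS.to_le (hXN.trans hNS))
      (lt_of_le_of_ne (Subgroup.zpowers_le.2 heX) fun h => hxH (Subgroup.zpowers_le.2 d.heH
        (h.symm ▸ hxX : x ∈ Subgroup.zpowers e))))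
    rw [Nat.card_zpowers, orderOf_eq_prime d.hep d.he, sq]
  have hk0 : ¬ p ∣ k := by
    rintro ⟨c, rfl⟩
    rw [pow_mul, d.hep, one_pow] at hk
    set A := Subgroup.closure ({e, x, y} : Set Ω) with hA
    have hAS : A ≤ S := (Subgroup.closure_le _).2 (by
      rintro v (rfl | rfl | rfl)
      exacts [hH d.heH, hNS hxN, hMS hyM])
    have hfinA := finite_of_le hAS
    have hgen : ∀ a ∈ ({e, x, y} : Set Ω), ∀ b ∈ ({e, x, y} : Set Ω), a * b = b * a := by
      rintro a (rfl | rfl | rfl) b (rfl | rfl | rfl)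
      exacts [rfl, hex.eq, hye.eq.symm, hex.eq.symm, rfl, hyx.eq.symm, hye.eq, hyx.eq, rfl]
    haveI hAc : IsMulCommutative A := Subgroup.isMulCommutative_closure hgen
    have hAel : Cfsg.IsElementaryAbelian p A := by
      refine ⟨hAc, fun a ha => ?_⟩
      induction ha using Subgroup.closure_induction with
      | mem v hv => rcases hv with rfl | rfl | rfl
                    exacts [d.hep, hNexp _ hxN, hk]
      | one => exact one_pow p
      | mul u v hu hv iu iv => rw [(show Commute u v from setLike_mul_comm (s := A) hu hv).mul_pow,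
          iu, iv, one_mul]
      | inv u _ iu => rw [inv_pow, iu, inv_one]
    have hXA : X < A := lt_of_le_of_ne (Subgroup.closure_mono (by
      rintro v (rfl | rfl) <;> simp)) fun h => hyN (hXN (h.symm ▸ Subgroup.subset_closure (by simp)))
    have h1 := (Nat.mul_le_mul_left p hXcard).trans (mul_card_le_of_lt (hS.to_le hAS) hXA)
    have h2 := h1.trans (hrank3 A hAS hAel)
    have := hp.two_le
    nlinarith [pow_pos hp.pos 2]
  obtain ⟨τ, hτ, hmem, hte, htf⟩ := htor 2 μ hμ1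
  obtain ⟨a, b, hτx⟩ := d.exists_torus_form hp2 hH hmem hte htf
  have hb : p ∣ b := by
    by_contra hb
    obtain ⟨t, ht⟩ := exists_mul_modEq hb
    set u := y ^ (4 * t) with hu
    have huS : u ∈ S := S.pow_mem (hMS hyM) _
    set K := (conjHom H u).range with hK
    have hconjK : ∀ v ∈ H, u * v * u⁻¹ ∈ K := fun v hv => ⟨⟨v, hv⟩, rfl⟩
    have hHK : F.IsConj H K := ⟨conjHom H u, F.conj_mem hH huS, rfl⟩
    have heK : e ∈ K := by
      have := hconjK e d.heH
      rwa [hu, hMe _ (M.pow_mem hyM _)] at this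
    have hxfK : x ^ (4 * t) * f ∈ K := by
      have := hconjK f d.hfH
      rw [hu, hypow] at this
      exact (K.mul_mem_cancel_right (K.pow_mem heK _)).1 this
    have hxb : x ^ 4 * f ^ b ∈ K := by
      have hz : f * x ^ (4 * t) = x ^ (4 * t) * f * (e ^ (4 * t))⁻¹ := by
        rw [mul_inv_eq_iff_eq_mul.1 (d.xpow_conj (4 * t)), mul_assoc f,
          (hex.pow_pow _ _).eq]
        simp [mul_assoc]
      have h := mul_pow_comm hz (hex.pow_pow _ _).inv_left (hef.pow_left _).inv_left b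
      have hmemK : x ^ (4 * t * b) * f ^ b * ((e ^ (4 * t))⁻¹) ^ b.choose 2 ∈ K := by
        rw [pow_mul x, ← h]; exact K.pow_mem hxfK b
      rw [pow_congr (hNexp x hxN) (show ((4 * t * b : ℕ) : ZMod p) = ((4 : ℕ) : ZMod p) by
        push_cast; linear_combination (4 : ZMod p) * ht)] at hmemK
      exact (K.mul_mem_cancel_right (K.pow_mem (K.inv_mem (K.pow_mem heK _)) _)).1 hmemK
    set φ := restrictHom τ hXN with hφ
    have hφK : φ.range ≤ K := by
      rintro _ ⟨⟨v, hv⟩, rfl⟩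
      induction hv using Subgroup.closure_induction with
      | mem v hv =>
        rcases hv with rfl | rfl
        · show τ _ ∈ K
          rw [hte _ rfl]
          exact K.pow_mem heK _
        · show τ ⟨_, _⟩ ∈ K
          rw [hτx, (hef.pow_pow a b).eq, ← mul_assoc]
          exact K.mul_mem hxb (K.pow_mem heK a)
      | one => exact (map_one φ).symm ▸ K.one_mem
      | mul u v hu hv iu iv => exact (map_mul φ ⟨u, hu⟩ ⟨v, hv⟩).symm ▸ K.mul_mem iu iv
      | inv u hu iu => exact (map_inv φ ⟨u, hu⟩).symm ▸ K.inv_mem iu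
    have hinj : Function.Injective φ := F.injective_of_mem (restrict_mem hτ hXN)
    have hfinK : Finite K := finite_of_le (le_of_isConj_right hHK)
    have hrange : φ.range = K := by
      refine Subgroup.eq_of_le_of_card_ge hφK ?_
      rw [← card_eq_of_isConj hHK, hd]
      exact hXcard.trans_eq (Nat.card_congr (MonoidHom.ofInjective hinj).toEquiv)
    have hXK : F.IsConj X K := ⟨φ, restrict_mem hτ hXN, hrange⟩
    have hle := hess.2.1.2 X (isConj_trans hHK (isConj_symm hXK))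
    have hMX : M ≤ normalizerIn S X := fun g hg =>
      ⟨hMS hg, Subgroup.mem_normalizer_fintype fun v hv => by
        induction hv using Subgroup.closure_induction with
        | mem v hv =>
          rcases hv with rfl | rfl
          · rw [hMe g hg]; exact heX
          · obtain ⟨c, hc'⟩ := hMx g hg
            rw [hc']
            exact X.mul_mem hxX (X.pow_mem heX c)
        | one => simp
        | mul u v _ _ iu iv =>
          have := X.mul_mem iu iv
          simpa [mul_assoc] using this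
        | inv u _ iu =>
          have := X.inv_mem iu
          simpa [mul_assoc] using this⟩
    have hfinNX := finite_of_le (normalizerIn_le S X)
    have := (mul_card_le_of_lt (hS.to_le hMS) hNM).trans
      ((Subgroup.card_le_of_le hMX).trans hle)
    have := hp.two_le
    have : 0 < Nat.card N := Nat.card_pos
    nlinarith
  obtain ⟨b', rfl⟩ := hb
  rw [pow_mul f, d.hfp, one_pow, mul_one] at hτx
  -- extend `τ` over `y`
  let eN : N := ⟨e, hHN d.heH⟩
  let fN : N := ⟨f, hHN d.hfH⟩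
  let xN : N := ⟨x, hxN⟩
  have hrange : τ.range = N := by
    refine Subgroup.eq_of_le_of_card_ge (by rintro _ ⟨g, rfl⟩; exact hmem g) ?_
    exact (Nat.card_congr (MonoidHom.ofInjective (F.injective_of_mem hτ)).toEquiv).le
  have hrec : F.IsReceptive N :=
    FusionSimple.receptive_of_centric hS hF (isCentric_of_le hess.1 hHN hNS)
  obtain ⟨ψ, hψ, hψτ⟩ := hrec.2 N τ hτ hrange
  set C := μ.choose 2 with hC
  set i := 2 * (a + 2 * r + 8 * C) + (p - 1) * (8 * r) with hi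
  set g := y ^ 8 * x ^ i with hg
  have hgS : g ∈ S := S.mul_mem (S.pow_mem (hMS hyM) _) (S.pow_mem (hNS hxN) _)
  have hgx : Commute g x :=
    (hyx.pow_left 8).mul_left ((Commute.refl x).pow_left i)
  have hge : Commute g e := (hye.pow_left 8).mul_left ((hex.symm).pow_left i)
  have hgf : g * f * g⁻¹ = x ^ 8 * f * e ^ (8 * r + i) := by
    calc g * f * g⁻¹ = y ^ 8 * (x ^ i * f * (x ^ i)⁻¹) * (y ^ 8)⁻¹ := by
          rw [hg]; simp [mul_assoc]
      _ = (y ^ 8 * f * (y ^ 8)⁻¹) * (y ^ 8 * e ^ i * (y ^ 8)⁻¹) := by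
          rw [d.xpow_conj]; simp [mul_assoc]
      _ = _ := by rw [hypow, (hye.pow_pow 8 i).eq, mul_inv_cancel_right, mul_assoc (x ^ 8 * f), ← pow_add]
  let yN : N →* N :=
    { toFun := fun n => ⟨y * n * y⁻¹, hconjN y hyM n n.2⟩
      map_one' := Subtype.ext (by simp)
      map_mul' := fun u v => Subtype.ext (by simp [mul_assoc]) }
  have hkey : ∀ n : N, τ (yN n) = g * τ n * g⁻¹ := by
    have hE : τ (yN eN) = g * τ eN * g⁻¹ := by
      rw [show yN eN = eN from Subtype.ext (hMe y hyM), hte eN rfl, (hge.pow_right 2).eq,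
        mul_inv_cancel_right]
    have hX : τ (yN xN) = g * τ xN * g⁻¹ := by
      rw [show yN xN = xN from Subtype.ext (by
        show y * x * y⁻¹ = x
        rw [hyx.eq, mul_inv_cancel_right]), show τ xN = x ^ 4 * e ^ a from hτx,
        ((hgx.pow_right 4).mul_right (hge.pow_right a)).eq, mul_inv_cancel_right]
    have hFf : τ (yN fN) = g * τ fN * g⁻¹ := by
      rw [show yN fN = xN * fN * eN ^ r from Subtype.ext (by
        show y * f * y⁻¹ = _
        simpa [xN, fN, eN] using hyf),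
        map_mul, map_mul, map_pow, show τ xN = x ^ 4 * e ^ a from hτx, htf fN rfl, hte eN rfl,
        ← conj_pow, hgf]
      have hz : f * x ^ 8 = x ^ 8 * f * (e ^ 8)⁻¹ := by
        rw [mul_inv_eq_iff_eq_mul.1 (d.xpow_conj 8), mul_assoc f, (hex.pow_pow _ _).eq]
        simp [mul_assoc]
      have hexf : ∀ n m : ℕ, Commute (e ^ n) (x ^ m * f) := fun n m =>
        (hex.pow_pow n m).mul_right (hef.pow_left n)
      rw [((hexf _ 8).symm).mul_pow, mul_pow_comm hz (hex.pow_pow _ _).inv_left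
        (hef.pow_left _).inv_left, ← pow_mul x,
        pow_congr (hNexp x hxN) (show ((8 * μ : ℕ) : ZMod p) = ((4 : ℕ) : ZMod p) by
          push_cast at hμ1 ⊢; linear_combination (4 : ZMod p) * hμ1),
        show (e ^ 8)⁻¹ = e ^ (8 * (p - 1)) from inv_eq_of_mul_eq_one_right (by
          rw [← pow_add, show 8 + 8 * (p - 1) = p * 8 by omega, pow_mul, d.hep, one_pow]),
        ← hC, ← pow_mul e, ← pow_mul e, ← pow_mul e]
      simp only [mul_assoc]
      rw [← mul_assoc (e ^ a), (hef.pow_pow a μ).eq, mul_assoc, ← pow_add, ← pow_add]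
      congr 2
      refine pow_congr d.hep ?_
      have hp1 : ((p - 1 : ℕ) : ZMod p) = -1 := by
        rw [Nat.cast_sub hp.one_le]; simp
      rw [hi]
      push_cast [hp1] at hμ1 ⊢
      linear_combination (-((a : ZMod p) + 2 * r + 8 * C)) * hμ1
    intro n
    obtain ⟨j', s', r', hn⟩ := d.exists_form n.2
    rw [show n = xN ^ j' * fN ^ s' * eN ^ r' from Subtype.ext (by simpa [xN, fN, eN] using hn)]
    simp only [map_mul, map_pow, hE, hX, hFf, conj_pow]
    simp [mul_assoc]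
  have hyE : y ∈ extender S N τ := mem_extender_iff.2
    ⟨hMS hyM, hyM.2, g, hgS, fun n hn => hkey n⟩
  have hNE : N ≤ extender S N τ := le_extender hNS fun n => hNS (hmem n)
  set yT : extender S N τ := ⟨y, hyE⟩
  have hc' : ∀ n : N, Commute (g⁻¹ * ψ yT) (τ n) := by
    intro n
    have h1 : ψ yT * τ n * (ψ yT)⁻¹ = g * τ n * g⁻¹ := by
      rw [← hkey n, ← hψτ n n.2 (hNE n.2), ← hψτ (yN n : Ω) (yN n).2 (hNE (yN n).2), ← map_inv,
        ← map_mul, ← map_mul]
      exact congrArg ψ (Subtype.ext rfl)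
    rw [mul_inv_eq_iff_eq_mul] at h1
    show g⁻¹ * ψ yT * τ n = τ n * (g⁻¹ * ψ yT)
    rw [mul_assoc, h1]
    simp [mul_assoc]
  have hcN : ∀ n ∈ N, n * (g⁻¹ * ψ yT) = (g⁻¹ * ψ yT) * n := fun n hn => by
    obtain ⟨m, rfl⟩ := (hrange ▸ hn : n ∈ τ.range)
    exact (hc' m).eq.symm
  have hcS : g⁻¹ * ψ yT ∈ S := S.mul_mem (S.inv_mem hgS) (apply_mem hψ yT)
  obtain ⟨s, hs⟩ := d.mem_zpowers_of_central
    (hHN (d.mem_of_commute hcS (hcN e (hHN d.heH)) (hcN f (hHN d.hfH)))) hcN hH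
  have h1 : ψ yT ^ p = e ^ (8 * k) := by
    rw [show ψ yT = g * e ^ s by rw [← hs, mul_inv_cancel_left], (hge.pow_right s).mul_pow,
      ← pow_mul e, mul_comm s p, pow_mul e, d.hep, one_pow, mul_one, hg,
      (hyx.pow_pow 8 i).mul_pow, ← pow_mul, ← pow_mul, mul_comm 8 p, mul_comm i p, pow_mul,
      pow_mul x, hk, hNexp x hxN, one_pow, mul_one, ← pow_mul, mul_comm]
  have h2 : ψ yT ^ p = e ^ (2 * k) := by
    rw [← map_pow, pow_mul, ← hte eN rfl, ← map_pow,
      ← hψτ ((eN ^ k : N) : Ω) (eN ^ k).2 (hNE (eN ^ k).2)]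
    exact congrArg ψ (Subtype.ext (by simpa [yT, eN] using hk))
  have h6 : ((6 * k : ℕ) : ZMod p) = ((0 : ℕ) : ZMod p) := by
    have := cast_eq_of_pow_eq d.he d.hep (h1.symm.trans h2)
    push_cast at this ⊢
    linear_combination this
  rw [ZMod.natCast_eq_natCast_iff, Nat.modEq_zero_iff_dvd] at h6
  rcases hp.dvd_mul.1 h6 with h | h
  · have := Nat.le_of_dvd (by norm_num) h
    interval_cases p <;> norm_num at *
  · exact hk0 h

end CfsgLib.FusionRankTwo
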