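import Cfsg.Agent.FusionRankTwo.Util

/-!
# Elementary abelian essential subgroups of order `p²`: frames in `N_S(H)`
-/

set_option autoImplicit false
set_option linter.style.haveILetI false

namespace CfsgLib.FusionRankTwo

open Cfsg Cfsg.FusionSystem CfsgLib.Fusion CfsgLib.FusionEssential

variable {Ω : Type*} [Group Ω] {S : Subgroup Ω} {p : ℕ}

/-- The data attached to an element `x` of `N_S(H) \ H`. -/
structure EFrame (F : FusionSystem S) (p : ℕ) (H : Subgroup Ω) (x e f : Ω) : Prop where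
  fp : Fact p.Prime
  hxN : x ∈ normalizerIn S H
  hx : x ∉ H
  heH : e ∈ H
  hfH : f ∈ H
  he : e ≠ 1
  hep : e ^ p = 1
  hfp : f ^ p = 1
  hef : e * f = f * e
  hxe : x * e = e * x
  hxf : x * f * x⁻¹ = f * e
  hf : f ∉ Subgroup.zpowers e
  span : ∀ v ∈ H, ∃ r s : ℕ, v = e ^ r * f ^ s
  hN : ∀ g ∈ normalizerIn S H, g * e * g⁻¹ = e ∧ ∃ n : ℕ, g * f * g⁻¹ = f * e ^ n
  centric : ∀ g ∈ S, (∀ v ∈ H, v * g = g * v) → g ∈ H

theorem exists_eFrame [Finite S] [Fact p.Prime] {F : FusionSystem S} {H : Subgroup Ω}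
    (hS : IsPGroup p S) (hF : F.IsSaturated p) (hess : F.IsEssential p H)
    (hc : ∀ a b : H, a * b = b * a) (hexp : ∀ a : H, a ^ p = 1) (hd : Nat.card H = p ^ 2)
    {x : Ω} (hxN : x ∈ normalizerIn S H) (hx : x ∉ H) :
    ∃ e f : Ω, EFrame F p H x e f ∧ ∀ l m : ℕ, (l : ZMod p) * m = 1 →
      ∃ τ ∈ F.Hom (normalizerIn S H),
        (∀ g, τ g ∈ normalizerIn S H) ∧
        (∀ h : normalizerIn S H, (h : Ω) = e → τ h = e ^ l) ∧
        (∀ h : normalizerIn S H, (h : Ω) = f → τ h = f ^ m) := by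
  have hfin := finite_of_le hess.1.1
  have hH := hess.1.1
  have hker : IsPGroup p (F.autGroup H).subtype.ker := by
    rw [Subgroup.ker_subtype]; exact IsPGroup.of_bot
  obtain ⟨e, f, he, hf, hue, huf, hspan, hpow, htor⟩ :=
    exists_frame hS hess (F.autGroup H).subtype hker hc hexp hd hF ⟨x, hxN⟩ hx
  have hxe' : x * (e : Ω) * x⁻¹ = e := congrArg Subtype.val hue
  have hxf' : x * (f : Ω) * x⁻¹ = f * e := congrArg Subtype.val huf
  have hN : ∀ g : normalizerIn S H, ((g : Ω) * e * (g : Ω)⁻¹ = e) ∧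
      ∃ n : ℕ, (g : Ω) * f * (g : Ω)⁻¹ = f * (e : Ω) ^ n := by
    intro g
    obtain ⟨n, hn⟩ := hpow g
    have key : ∀ n : ℕ, ((normAut F hH ⟨x, hxN⟩ : MulAut H) ^ n) e = e ∧
        ((normAut F hH ⟨x, hxN⟩ : MulAut H) ^ n) f = f * e ^ n := by
      intro n
      induction n with
      | zero => simp
      | succ n ih =>
        constructor
        · rw [pow_succ, MulAut.mul_apply]
          exact (congrArg _ hue).trans ih.1
        · rw [pow_succ, MulAut.mul_apply]
          exact (congrArg _ huf).trans (by rw [map_mul, ih.1, ih.2, mul_assoc, ← pow_succ])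
    refine ⟨?_, n, ?_⟩
    · exact congrArg Subtype.val ((DFunLike.congr_fun hn e).trans (key n).1)
    · exact congrArg Subtype.val ((DFunLike.congr_fun hn f).trans (key n).2)
  refine ⟨e, f, ⟨inferInstance, hxN, hx, e.2, f.2, fun h => he (Subtype.ext h),
    congrArg Subtype.val (hexp e), congrArg Subtype.val (hexp f), congrArg Subtype.val (hc e f),
    mul_inv_eq_iff_eq_mul.1 hxe', hxf', fun h => hf ?_, fun v hv => ?_,
    fun g hg => hN ⟨g, hg⟩,
    fun g hg h => centralizerIn_le_of_centric hess.1 (mem_centralizerIn.2 ⟨hg, h⟩)⟩, ?_⟩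
  · obtain ⟨n, hn⟩ := Subgroup.mem_zpowers_iff.1 h
    exact Subgroup.mem_zpowers_iff.2 ⟨n, Subtype.ext (by simpa using hn)⟩
  · obtain ⟨r, s, h⟩ := hspan ⟨v, hv⟩
    exact ⟨r, s, by simpa using congrArg Subtype.val h⟩
  intro l m hlm
  obtain ⟨τ, hτ, t, hval, -, hmem, hte, htf⟩ := htor l m hlm
  refine ⟨τ, hτ, hmem, fun h hh => ?_, fun h hh => ?_⟩
  · rw [show h = Subgroup.inclusion (le_normalizerIn hH) e from Subtype.ext hh, hval]
    simpa using congrArg Subtype.val hte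
  · rw [show h = Subgroup.inclusion (le_normalizerIn hH) f from Subtype.ext hh, hval]
    simpa using congrArg Subtype.val htf

namespace EFrame

variable {F : FusionSystem S} {H : Subgroup Ω} {x e f : Ω} (d : EFrame F p H x e f)
include d

theorem he_dvd {n : ℕ} (hn : e ^ n = 1) : p ∣ n :=
  haveI := d.fp
  dvd_of_pow_eq_one d.he d.hep hn

theorem xpow_conj (n : ℕ) : x ^ n * f * (x ^ n)⁻¹ = f * e ^ n := by
  induction n with
  | zero => simp
  | succ n ih =>
    calc x ^ (n + 1) * f * (x ^ (n + 1))⁻¹ = x * (x ^ n * f * (x ^ n)⁻¹) * x⁻¹ := by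
          rw [pow_succ', mul_inv_rev]; simp [mul_assoc]
      _ = (x * f * x⁻¹) * (x * e ^ n * x⁻¹) := by rw [ih]; simp [mul_assoc]
      _ = _ := by
        rw [d.hxf, ((show Commute x e from d.hxe).pow_right n).eq, mul_inv_cancel_right,
          mul_assoc, ← pow_succ']

theorem mem_of_commute {g : Ω} (hg : g ∈ S) (h1 : e * g = g * e) (h2 : f * g = g * f) :
    g ∈ H := by
  refine d.centric g hg fun v hv => ?_
  obtain ⟨r, s, rfl⟩ := d.span v hv
  exact (((show Commute e g from h1).pow_left r).mul_left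
    ((show Commute f g from h2).pow_left s)).eq

theorem mem_zpowers_of_commute {v : Ω} (hv : v ∈ H) (h : x * v = v * x) :
    ∃ r : ℕ, v = e ^ r := by
  haveI := d.fp
  obtain ⟨r, s, rfl⟩ := d.span v hv
  refine ⟨r, ?_⟩
  have h2 : x * (e ^ r * f ^ s) * x⁻¹ = e ^ r * (f ^ s * e ^ s) := by
    calc x * (e ^ r * f ^ s) * x⁻¹ = (x * e ^ r * x⁻¹) * (x * f ^ s * x⁻¹) := by simp [mul_assoc]
      _ = _ := by
        rw [((show Commute x e from d.hxe).pow_right r).eq, mul_inv_cancel_right, ← conj_pow,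
          d.hxf, (show Commute f e from d.hef.symm).mul_pow]
  rw [h, mul_inv_cancel_right, ← mul_assoc, eq_comm, mul_eq_left] at h2
  obtain ⟨c, rfl⟩ := d.he_dvd h2
  rw [pow_mul f, d.hfp, one_pow, mul_one]

/-- Normal forms in `N_S(H)`. -/
theorem exists_form {g : Ω} (hg : g ∈ normalizerIn S H) :
    ∃ j s r : ℕ, g = x ^ j * f ^ s * e ^ r := by
  obtain ⟨hge, n, hgf⟩ := d.hN g hg
  have h : (x ^ n)⁻¹ * g ∈ H := by
    refine d.mem_of_commute (S.mul_mem (S.inv_mem (S.pow_mem d.hxN.1 n)) hg.1) ?_ ?_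
    · exact ((((show Commute x e from d.hxe).pow_left n).inv_left).mul_left
        (mul_inv_eq_iff_eq_mul.1 hge)).eq.symm
    · have h1 := mul_inv_eq_iff_eq_mul.1 hgf
      have h2 := mul_inv_eq_iff_eq_mul.1 (d.xpow_conj n)
      calc f * ((x ^ n)⁻¹ * g) = (x ^ n)⁻¹ * (x ^ n * f) * (x ^ n)⁻¹ * g := by simp [mul_assoc]
        _ = (x ^ n)⁻¹ * (f * e ^ n) * g := by rw [h2]; simp [mul_assoc]
        _ = (x ^ n)⁻¹ * g * f := by
          rw [mul_assoc, mul_assoc (x ^ n)⁻¹ g, h1]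
  obtain ⟨r, s, hrs⟩ := d.span _ h
  refine ⟨n, s, r, ?_⟩
  rw [((show Commute e f from d.hef).pow_pow r s).eq] at hrs
  rw [mul_assoc, ← hrs, mul_inv_cancel_left]

theorem commute_e {g : Ω} (hg : g ∈ normalizerIn S H) : g * e = e * g :=
  mul_inv_eq_iff_eq_mul.1 (d.hN g hg).1

/-- The centre of `N_S(H)` is generated by `e`. -/
theorem mem_zpowers_of_central {c : Ω} (hc : c ∈ normalizerIn S H)
    (h : ∀ g ∈ normalizerIn S H, g * c = c * g) (hH : H ≤ S) : ∃ r : ℕ, c = e ^ r :=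
  d.mem_zpowers_of_commute
    (d.mem_of_commute hc.1 (h e (le_normalizerIn hH d.heH)) (h f (le_normalizerIn hH d.hfH)))
    (h x d.hxN)

end EFrame

end CfsgLib.FusionRankTwo
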