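import Cfsg.Agent.FusionRankTwo.Torus
import Cfsg.Agent.Fusion.Alperin

/-!
# An essential subgroup acting on an elementary abelian group of order `p²`

If `Aut_F(H)` acts on `V` of order `p²` with a `p`-group as kernel, then the kernel consists of inner
automorphisms, `N_S(H)` induces a group of order `p`, and the torus normalizing the latter extends to
`N_S(H)`.
-/

set_option autoImplicit false
set_option linter.style.haveILetI false

namespace CfsgLib.FusionRankTwo

open Cfsg Cfsg.FusionSystem CfsgLib.Fusion CfsgLib.FusionEssential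

variable {Ω : Type*} [Group Ω] {S : Subgroup Ω} {F : FusionSystem S} {H : Subgroup Ω} {p : ℕ}

variable (F) in
/-- Conjugation, from `N_S(H)` to `Aut_F(H)`. -/
def normAut (hH : H ≤ S) : normalizerIn S H →* F.autGroup H :=
  MonoidHom.codRestrict
    (H.normalizerMonoidHom.comp (Subgroup.inclusion (inf_le_right :
      normalizerIn S H ≤ Subgroup.normalizer (H : Set Ω))))
    (F.autGroup H) fun g => autInducedBy_le_autGroup hH
      (mem_autInducedBy_iff.2 ⟨g, g.2.1, g.2.2, fun _ => rfl⟩)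

theorem normAut_apply (hH : H ≤ S) (g : normalizerIn S H) (h : H) :
    (((normAut F hH g : F.autGroup H) : MulAut H) h : Ω) = g * h * (g : Ω)⁻¹ := rfl

theorem range_normAut (hH : H ≤ S) :
    (normAut F hH).range.map (F.autGroup H).subtype = autInducedBy S H := by
  ext α
  constructor
  · rintro ⟨_, ⟨g, rfl⟩, rfl⟩
    exact mem_autInducedBy_iff.2 ⟨g, g.2.1, g.2.2, fun _ => rfl⟩
  · intro hα
    obtain ⟨g, hg, hgN, h⟩ := mem_autInducedBy_iff.1 hα
    exact ⟨_, ⟨⟨g, hg, hgN⟩, rfl⟩, MulEquiv.ext fun x => Subtype.ext (h x).symm⟩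

/-- Two `p`-elements with non-commuting images. -/
theorem exists_noncommute_of_hom [Finite S] [Fact p.Prime] (hess : F.IsEssential p H) {G : Type*}
    [Group G] (ψ : F.autGroup H →* G) (hker : IsPGroup p ψ.ker) :
    ∃ α β : F.autGroup H, (∃ a : ℕ, α ^ p ^ a = 1) ∧ (∃ b : ℕ, β ^ p ^ b = 1) ∧
      ψ α * ψ β ≠ ψ β * ψ α := by
  by_contra hc
  push Not at hc
  let K : Subgroup (F.autGroup H) :=
    { carrier := {α | ∃ a : ℕ, α ^ p ^ a = 1}
      one_mem' := ⟨0, by simp⟩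
      mul_mem' := by
        rintro α β ⟨a, ha⟩ ⟨b, hb⟩
        have hmem : (α * β) ^ p ^ (a + b) ∈ ψ.ker := by
          rw [MonoidHom.mem_ker, map_pow, map_mul,
            Commute.mul_pow (hc α β ⟨a, ha⟩ ⟨b, hb⟩), pow_add, pow_mul, ← map_pow, ha, map_one,
            one_pow, one_mul, mul_comm, pow_mul, ← map_pow, hb, map_one, one_pow]
        obtain ⟨c, hc'⟩ := hker ⟨_, hmem⟩
        exact ⟨a + b + c, by rw [pow_add, pow_mul]; simpa using congrArg Subtype.val hc'⟩
      inv_mem' := by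
        rintro α ⟨a, ha⟩
        exact ⟨a, by rw [inv_pow, ha, inv_one]⟩ }
  have hK : K.Normal := ⟨fun α ⟨a, ha⟩ g => ⟨a, by rw [conj_pow, ha, mul_one, mul_inv_cancel]⟩⟩
  have hKp : IsPGroup p K := fun ⟨α, a, ha⟩ => ⟨a, Subtype.ext ha⟩
  obtain ⟨α, hα, hout⟩ := exists_pElement_not_inn hess
  exact hout (map_le_Inn hess hK hKp ⟨α, hα, rfl⟩)

/-- An element of `N_S(H)` acting trivially through `ψ` lies in `H`. -/
theorem mem_of_ker [Finite S] [Fact p.Prime] (hess : F.IsEssential p H) {G : Type*} [Group G]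
    (ψ : F.autGroup H →* G) (hker : IsPGroup p ψ.ker) (g : normalizerIn S H)
    (h : ψ (normAut F hess.1.1 g) = 1) : (g : Ω) ∈ H := by
  by_contra hg
  exact not_mem_Inn_of_not_mem hess.1 g.2 hg (fun _ => rfl)
    (map_le_Inn hess inferInstance hker
      ⟨normAut F hess.1.1 g, MonoidHom.mem_ker.2 h, rfl⟩)

section Plane

variable {V : Type*} [Group V] [Finite V] [Finite S] [Fact p.Prime] (hS : IsPGroup p S)
  (hess : F.IsEssential p H) (ψ : F.autGroup H →* MulAut V) (hker : IsPGroup p ψ.ker)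
  (hc : ∀ a b : V, a * b = b * a) (hexp : ∀ a : V, a ^ p = 1) (hd : Nat.card V = p ^ 2)

include hS hess hker hc hexp hd

/-- `H` acts trivially. -/
theorem normAut_eq_one_of_mem (g : normalizerIn S H) (hg : (g : Ω) ∈ H) :
    ψ (normAut F hess.1.1 g) = 1 := by
  by_contra hne
  obtain ⟨α, β, ⟨a, ha⟩, ⟨b, hb⟩, hαβ⟩ := exists_noncommute_of_hom hess ψ hker
  have hfin := finite_of_le hess.1.1
  let I := (Inn H).subgroupOf (F.autGroup H)
  have hIp : IsPGroup p I := by
    rw [show I = (autInducedBy H H).subgroupOf (F.autGroup H) by rw [← Inn_eq]]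
    exact (isPGroup_autInducedBy (hS.to_le hess.1.1) H).comap_subtype
  have hgI : normAut F hess.1.1 g ∈ I := ⟨⟨g, hg⟩, MulEquiv.ext fun x => Subtype.ext rfl⟩
  have key : ∀ γ : F.autGroup H, (∃ c : ℕ, γ ^ p ^ c = 1) →
      ψ γ ∈ Subgroup.zpowers (ψ (normAut F hess.1.1 g)) := by
    rintro γ ⟨c, hγ⟩
    haveI : I.Normal := Inn_subgroupOf_normal F H
    have hK : IsPGroup p ((I ⊔ Subgroup.zpowers γ).map ψ) :=
      (hIp.to_sup_of_normal_left (isPGroup_zpowers_of_pow_eq_one hγ)).map ψ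
    have hu := Subgroup.mem_map_of_mem ψ
      ((le_sup_left : I ≤ I ⊔ Subgroup.zpowers γ) hgI)
    rw [← eq_zpowers_of_pGroup hc hexp hd hK hu hne]
    exact Subgroup.mem_map_of_mem ψ
      ((le_sup_right : Subgroup.zpowers γ ≤ I ⊔ Subgroup.zpowers γ) (Subgroup.mem_zpowers γ))
  obtain ⟨m, hm⟩ := Subgroup.mem_zpowers_iff.1 (key α ⟨a, ha⟩)
  obtain ⟨n, hn⟩ := Subgroup.mem_zpowers_iff.1 (key β ⟨b, hb⟩)
  exact hαβ (by rw [← hm, ← hn, ← zpow_add, ← zpow_add, add_comm])

/-- The frame attached to an element of `N_S(H) \ H`. -/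
theorem exists_frame (hF : F.IsSaturated p) (x : normalizerIn S H) (hx : (x : Ω) ∉ H) :
    ∃ e f : V, e ≠ 1 ∧ f ∉ Subgroup.zpowers e ∧ ψ (normAut F hess.1.1 x) e = e ∧
      ψ (normAut F hess.1.1 x) f = f * e ∧ (∀ v, ∃ r s : ℕ, v = e ^ r * f ^ s) ∧
      (∀ g, ∃ n : ℕ, ψ (normAut F hess.1.1 g) = ψ (normAut F hess.1.1 x) ^ n) ∧
      ∀ l m : ℕ, (l : ZMod p) * m = 1 →
        ∃ τ ∈ F.Hom (normalizerIn S H), ∃ t : F.autGroup H,
          (∀ h : H, τ (Subgroup.inclusion (le_normalizerIn hess.1.1) h) = (t : MulAut H) h) ∧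
          (∀ g (hg : τ g ∈ normalizerIn S H),
            normAut F hess.1.1 ⟨τ g, hg⟩ = t * normAut F hess.1.1 g * t⁻¹) ∧
          (∀ g, τ g ∈ normalizerIn S H) ∧ ψ t e = e ^ l ∧ ψ t f = f ^ m := by
  have hH := hess.1.1
  have hfin := finite_of_le hH
  have hfinN := finite_of_le (normalizerIn_le S H)
  set u := normAut F hH x with hu
  have hu1 : ψ u ≠ 1 := fun h => hx (mem_of_ker hess ψ hker x h)
  obtain ⟨k, hk⟩ := (hS.to_le (normalizerIn_le S H)) x
  obtain ⟨α, β, ⟨a, ha⟩, ⟨b, hb⟩, hαβ⟩ := exists_noncommute_of_hom hess ψ hker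
  obtain ⟨e, f, he, hf, hue, huf, hspan, htor⟩ := exists_torus hc hexp hd ψ (i := a) (j := b)
    (k := k) (by rw [← map_pow, ha, map_one]) (by rw [← map_pow, hb, map_one]) hαβ
    (by rw [← map_pow, hu, ← map_pow, hk, map_one, map_one]) hu1
  set R := (normAut F hH).range with hR
  have hRp : IsPGroup p R := by
    rw [hR, MonoidHom.range_eq_map]
    exact ((hS.to_le (normalizerIn_le S H)).to_subgroup ⊤).map _
  have hRu : R.map ψ = Subgroup.zpowers (ψ u) :=
    eq_zpowers_of_pGroup hc hexp hd (hRp.map ψ) ⟨u, ⟨x, rfl⟩, rfl⟩ hu1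
  set B : Subgroup (F.autGroup H) := (Subgroup.zpowers (ψ u)).comap ψ with hB
  have hBp : IsPGroup p B :=
    (hRu ▸ hRp.map ψ : IsPGroup p (Subgroup.zpowers (ψ u))).comap_of_ker_isPGroup ψ hker
  obtain ⟨hauto, hrec⟩ := automized_receptive hS hF hess.2.1
  have hBeq : B.map (F.autGroup H).subtype = autInducedBy S H := by
    refine eq_autInducedBy_of_le hauto (Subgroup.map_subtype_le _) (hBp.map _) ?_
    rw [← range_normAut (F := F) hH]
    exact Subgroup.map_mono fun γ hγ => Subgroup.mem_comap.2 (hRu.le (Subgroup.mem_map_of_mem ψ hγ))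
  have hpowers : ∀ g, ∃ n : ℕ, ψ (normAut F hH g) = ψ u ^ n := fun g => by
    have h := (hRu.le ⟨_, ⟨g, rfl⟩, rfl⟩ : ψ (normAut F hH g) ∈ Subgroup.zpowers (ψ u))
    obtain ⟨n, hn⟩ := (isOfFinOrder_of_finite _).mem_powers_iff_mem_zpowers.2 h
    exact ⟨n, hn.symm⟩
  refine ⟨e, f, he, hf, hue, huf, hspan, hpowers, fun l m hlm => ?_⟩
  obtain ⟨t, hte, htf, htu⟩ := htor l m hlm
  have hI : IsIso F (t : MulAut H) := (mem_autGroup_iff hH).1 t.2
  have hext : normalizerIn S H ≤ extender S H (H.subtype.comp (t : MulAut H).toMonoidHom) := by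
    intro g hg
    refine mem_extender_of_congr hg (α := ((normAut F hH ⟨g, hg⟩ : F.autGroup H) : MulAut H))
      (fun _ => rfl) ?_
    rw [congr_self_eq, ← hBeq]
    refine ⟨t * normAut F hH ⟨g, hg⟩ * t⁻¹, ?_, rfl⟩
    obtain ⟨n, hn⟩ := hpowers ⟨g, hg⟩
    show ψ _ ∈ Subgroup.zpowers (ψ u)
    have hconj : ψ t * ψ u * (ψ t)⁻¹ = ψ u ^ (l * l) := by
      rw [← map_mul, htu, mul_inv_cancel_right]
    rw [map_mul, map_mul, map_inv, hn, ← conj_pow, hconj, ← pow_mul]
    exact Subgroup.pow_mem _ (Subgroup.mem_zpowers _) _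
  obtain ⟨τ, hτ, hτx⟩ := exists_extension hrec hI hext
  have hval : ∀ h : H, τ (Subgroup.inclusion (le_normalizerIn hH) h) = (t : MulAut H) h :=
    fun h => hτx h _
  have hconj : ∀ (g : normalizerIn S H) (h : H), τ g * ((t : MulAut H) h : Ω) * (τ g)⁻¹ =
      (t : MulAut H) (((normAut F hH g : F.autGroup H) : MulAut H) h) := by
    intro g h
    rw [← hval, ← hval, ← map_inv, ← map_mul, ← map_mul]
    exact congrArg τ (Subtype.ext rfl)
  have hmem : ∀ g, τ g ∈ normalizerIn S H := fun g =>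
    ⟨apply_mem hτ g, Subgroup.mem_normalizer_fintype fun y hy => by
      obtain ⟨h, hh⟩ := (t : MulAut H).surjective ⟨y, hy⟩
      have := hconj g h
      rw [hh] at this
      rw [this]
      exact SetLike.coe_mem _⟩
  refine ⟨τ, hτ, t, hval, fun g hg => ?_, hmem, hte, htf⟩
  refine Subtype.ext (MulEquiv.ext fun y => Subtype.ext ?_)
  obtain ⟨h, rfl⟩ := (t : MulAut H).surjective y
  show τ g * ((t : MulAut H) h : Ω) * (τ g)⁻¹ =
    ((t : MulAut H) ((normAut F hH g : MulAut H) ((t : MulAut H)⁻¹ ((t : MulAut H) h))) : Ω)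
  rw [hconj, show ((t : MulAut H)⁻¹ : MulAut H) ((t : MulAut H) h) = h from
    (t : MulAut H).symm_apply_apply h]

end Plane

end CfsgLib.FusionRankTwo
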