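import Cfsg.Agent.FusionRankTwo.Util
import Cfsg.Agent.FrobComp.SylowStructure

/-!
# Weights of a torus on a `p`-group containing `p^{1+2} ∘ C_{p^r}` with index bigger than one

A purely group theoretic lemma: such a configuration has `p`-rank at least three for `p ≥ 5`.
-/

set_option autoImplicit false
set_option linter.style.haveILetI false

namespace CfsgLib.FusionRankTwo

open Cfsg CfsgLib.FrobComp

variable {G : Type*} [Group G] {p : ℕ} [hp : Fact p.Prime]

/-- Three commuting elements of order `p` generating independently contradict rank two. -/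
theorem triple_false {N : Subgroup G} [Finite N] (hN : IsPGroup p N)
    (hrank : ∀ A : Subgroup G, A ≤ N → Cfsg.IsElementaryAbelian p A → Nat.card A ≤ p ^ 2)
    {a b c : G} (ha : a ∈ N) (hb : b ∈ N) (hc : c ∈ N) (hap : a ^ p = 1) (hbp : b ^ p = 1)
    (hcp : c ^ p = 1) (hab : Commute a b) (hac : Commute a c) (hbc : Commute b c) (ha1 : a ≠ 1)
    (hba : b ∉ Subgroup.zpowers a) (hcab : c ∉ Subgroup.closure ({a, b} : Set G)) : False := by
  set A := Subgroup.closure ({a, b, c} : Set G) with hA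
  set B := Subgroup.closure ({a, b} : Set G) with hB
  have hAN : A ≤ N := (Subgroup.closure_le _).2 (by
    rintro v (rfl | rfl | rfl)
    exacts [ha, hb, hc])
  haveI : Finite A := Finite.of_injective _ (Subgroup.inclusion_injective hAN)
  have hgen : ∀ u ∈ ({a, b, c} : Set G), ∀ v ∈ ({a, b, c} : Set G), u * v = v * u := by
    rintro u (rfl | rfl | rfl) v (rfl | rfl | rfl)
    exacts [rfl, hab.eq, hac.eq, hab.eq.symm, rfl, hbc.eq, hac.eq.symm, hbc.eq.symm, rfl]
  haveI hAc : IsMulCommutative A := Subgroup.isMulCommutative_closure hgen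
  have hAel : Cfsg.IsElementaryAbelian p A := by
    refine ⟨hAc, fun v hv => ?_⟩
    induction hv using Subgroup.closure_induction with
    | mem v hv => rcases hv with rfl | rfl | rfl
                  exacts [hap, hbp, hcp]
    | one => exact one_pow p
    | mul u v hu hv iu iv => rw [(show Commute u v from setLike_mul_comm (s := A) hu hv).mul_pow,
        iu, iv, one_mul]
    | inv u _ iu => rw [inv_pow, iu, inv_one]
  have hBA : B < A := lt_of_le_of_ne (Subgroup.closure_mono (by rintro v (rfl | rfl) <;> simp))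
    fun h => hcab (h.symm ▸ Subgroup.subset_closure (by simp))
  haveI : Finite B := Finite.of_injective _ (Subgroup.inclusion_injective hBA.le)
  have haB : Subgroup.zpowers a < B := lt_of_le_of_ne
    (Subgroup.zpowers_le.2 (Subgroup.subset_closure (by simp)))
    fun h => hba (h.symm ▸ Subgroup.subset_closure (by simp))
  have h1 := mul_card_le_of_lt (hN.to_le (hBA.le.trans hAN)) haB
  have h2 := mul_card_le_of_lt (hN.to_le hAN) hBA
  have h3 := hrank A hAN hAel
  rw [Nat.card_zpowers, orderOf_eq_prime hap ha1] at h1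
  have := hp.out.two_le
  nlinarith

variable {e f z : G}

/-- `e` and `f` generate a group of class two. -/
theorem pow_mul_pow_comm (hef : e * f = f * e * z) (hez : Commute e z) (hfz : Commute f z)
    (a b : ℕ) : e ^ a * f ^ b = f ^ b * e ^ a * z ^ (a * b) := by
  have h1 : ∀ b : ℕ, e * f ^ b = f ^ b * e * z ^ b := by
    intro b
    induction b with
    | zero => simp
    | succ b ih =>
      calc e * f ^ (b + 1) = (e * f ^ b) * f := by rw [pow_succ, mul_assoc]
        _ = f ^ b * e * (z ^ b * f) := by rw [ih, mul_assoc]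
        _ = f ^ b * (e * f) * z ^ b := by rw [← (hfz.pow_right b).eq]; simp [mul_assoc]
        _ = _ := by rw [hef, pow_succ, pow_succ']; simp [mul_assoc]
  induction a with
  | zero => simp
  | succ a ih =>
    calc e ^ (a + 1) * f ^ b = e * (e ^ a * f ^ b) := by rw [pow_succ', mul_assoc]
      _ = (e * f ^ b) * e ^ a * z ^ (a * b) := by rw [ih]; simp [mul_assoc]
      _ = f ^ b * e * (z ^ b * e ^ a) * z ^ (a * b) := by rw [h1]; simp [mul_assoc]
      _ = _ := by
        rw [← ((hez.pow_left a).pow_right b).eq, add_mul, one_mul, add_comm (a * b) b, pow_add,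
          pow_succ']
        simp [mul_assoc]
        rw [← mul_assoc e, ← pow_succ', pow_succ, mul_assoc, pow_add]

/-- The weight argument. -/
theorem weights_false (hp5 : 5 ≤ p) {N H : Subgroup G} [Finite N] (hN : IsPGroup p N)
    (hrank : ∀ A : Subgroup G, A ≤ N → Cfsg.IsElementaryAbelian p A → Nat.card A ≤ p ^ 2)
    (hHN : H ≤ N) (hnorm : ∀ g ∈ N, ∀ h ∈ H, g * h * g⁻¹ ∈ H)
    (heH : e ∈ H) (hfH : f ∈ H) (hef : e * f = f * e * z) (hz1 : z ≠ 1) (hep : e ^ p = 1)
    (hfp : f ^ p = 1) (hzp : z ^ p = 1) (hez : Commute e z) (hfz : Commute f z)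
    (hH : ∀ g ∈ H, ∃ i j : ℕ, g * e * g⁻¹ = e * z ^ i ∧ g * f * g⁻¹ = f * z ^ j)
    (hker : ∀ g ∈ N, ∀ i j : ℕ, g * e * g⁻¹ = e * z ^ i → g * f * g⁻¹ = f * z ^ j → g ∈ H)
    {x : G} (hxN : x ∈ N) (hxH : x ∉ H) {i₀ j₀ : ℕ} (hxe : x * e * x⁻¹ = e * z ^ i₀)
    (hxf : x * f * x⁻¹ = f * e * z ^ j₀)
    (τ : N →* G) (hτN : ∀ g, τ g ∈ N) (hτH : ∀ g : N, (g : G) ∈ H → τ g ∈ H) {a b : ℕ}
    (hτe : ∀ g : N, (g : G) = e → τ g = e ^ 2 * z ^ a)
    (hτf : ∀ g : N, (g : G) = f → τ g = f ^ ((p + 1) / 2) * z ^ b) : False := by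
  have hp' : p.Prime := hp.out
  have hp2 : p ≠ 2 := by omega
  set μ := (p + 1) / 2 with hμdef
  have hμ : 2 * μ = p + 1 := by rcases hp'.eq_two_or_odd with h | h <;> omega
  -- `z` lies in `H`
  have hzdef : z = (f * e)⁻¹ * (e * f) := by rw [hef, inv_mul_cancel_left]
  have hzH : z ∈ H := by
    rw [hzdef]; exact H.mul_mem (H.inv_mem (H.mul_mem hfH heH)) (H.mul_mem heH hfH)
  have hefn : ∀ n : ℕ, e ^ n * f = f * e ^ n * z ^ n := fun n => by
    simpa using pow_mul_pow_comm hef hez hfz n 1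
  have hfen : ∀ n : ℕ, e * f ^ n = f ^ n * e * z ^ n := fun n => by
    simpa using pow_mul_pow_comm hef hez hfz 1 n
  have hezf : e ∉ Subgroup.zpowers z := by
    intro h
    obtain ⟨k, hk⟩ := Subgroup.mem_zpowers_iff.1 h
    apply hz1
    have hc : Commute e f := hk ▸ (hfz.zpow_right k).symm
    rw [hzdef, hc.eq, inv_mul_cancel]
  -- normalise `x` so that it centralises `e`
  obtain ⟨x, hxN, hxH, hxe, j₁, hxf⟩ : ∃ x ∈ N, x ∉ H ∧ Commute x e ∧
      ∃ j : ℕ, x * f * x⁻¹ = f * e * z ^ j := by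
    refine ⟨f ^ i₀ * x, N.mul_mem (N.pow_mem (hHN hfH) _) hxN,
      fun h => hxH ((H.mul_mem_cancel_left (H.pow_mem hfH _)).1 h),
      mul_inv_eq_iff_eq_mul.1 ?_, j₀ + (p - 1) * i₀, ?_⟩
    · calc _ = f ^ i₀ * (x * e * x⁻¹) * (f ^ i₀)⁻¹ := by simp [mul_assoc]
        _ = e := by
          rw [hxe, ← mul_assoc, ← hfen, mul_inv_cancel_right]
    · calc _ = f ^ i₀ * (x * f * x⁻¹) * (f ^ i₀)⁻¹ := by simp [mul_assoc]
        _ = f * (f ^ i₀ * e) * (f ^ i₀)⁻¹ * z ^ j₀ := by
          rw [hxf, ← mul_assoc, ← mul_assoc, ((Commute.refl f).pow_left i₀).eq]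
          simp only [mul_assoc]
          rw [((hfz.pow_right j₀).pow_left i₀).inv_left.eq]
        _ = f * e * (z ^ i₀)⁻¹ * z ^ j₀ := by
          rw [eq_mul_inv_iff_mul_eq.2 (hfen i₀).symm, mul_assoc f,
            mul_assoc (e * f ^ i₀), ((hfz.pow_left i₀).pow_right i₀).inv_inv.eq.symm]
          simp [mul_assoc]
        _ = _ := by
          rw [show (z ^ i₀)⁻¹ = z ^ ((p - 1) * i₀) from inv_eq_of_mul_eq_one_right (by
            rw [← pow_add, show i₀ + (p - 1) * i₀ = p * i₀ by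
              rw [Nat.sub_mul, one_mul, Nat.add_sub_cancel' (Nat.le_mul_of_pos_left _ hp'.pos)],
              pow_mul, hzp, one_pow]), mul_assoc (f * e), ← pow_add, add_comm]
  have hxz : Commute x z := by
    refine mul_inv_eq_iff_eq_mul.1 ?_
    have hxe' : x * e * x⁻¹ = e := by rw [hxe.eq, mul_inv_cancel_right]
    calc x * z * x⁻¹ = (x * f * x⁻¹ * (x * e * x⁻¹))⁻¹ * ((x * e * x⁻¹) * (x * f * x⁻¹)) := by
          rw [hzdef]; simp [mul_assoc]
      _ = (f * e * z ^ j₁ * e)⁻¹ * (e * (f * e * z ^ j₁)) := by rw [hxe', hxf]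
      _ = (f * e * e * z ^ j₁)⁻¹ * (f * e * z * e * z ^ j₁) := by
          rw [mul_assoc (f * e) (z ^ j₁) e, ← (hez.pow_right j₁).eq]
          simp only [← mul_assoc, hef]
      _ = (f * e * e * z ^ j₁)⁻¹ * ((f * e * e * z ^ j₁) * z) := by
          simp only [mul_assoc]
          rw [← mul_assoc z e, ← hez.eq, mul_assoc e z, ((Commute.refl z).pow_right j₁).eq]
      _ = z := inv_mul_cancel_left _ _
  -- the centraliser `D` of `e` and `f` in `H`
  let D : Subgroup G := H ⊓ Subgroup.centralizer ({e, f} : Set G)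
  have hD : ∀ g, g ∈ D ↔ g ∈ H ∧ Commute e g ∧ Commute f g := fun g => by
    simp [D, Subgroup.mem_centralizer_iff, Commute, SemiconjBy]
  have hzD : z ∈ D := (hD z).2 ⟨hzH, hez, hfz⟩
  haveI : Finite D :=
    Finite.of_injective _ (Subgroup.inclusion_injective (inf_le_left.trans hHN : D ≤ N))
  haveI : Finite H := Finite.of_injective _ (Subgroup.inclusion_injective hHN)
  have hDz : ∀ g ∈ D, Commute z g := fun g hg => by
    obtain ⟨-, h1, h2⟩ := (hD g).1 hg
    rw [hzdef]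
    exact ((h2.mul_left h1).inv_left).mul_left (h1.mul_left h2)
  have huniq : ∀ y ∈ D, y ^ p = 1 → y ∈ Subgroup.zpowers z := by
    intro y hy hyp
    obtain ⟨hyH, hye, hyf⟩ := (hD y).1 hy
    by_contra hyz
    refine triple_false hN hrank (hHN hzH) (hHN hyH) (hHN heH) hzp hyp hep (hDz y hy) hez.symm
      hye.symm hz1 hyz fun he => ?_
    have hmem : e ∈ Subgroup.centralizer ({f} : Set G) :=
      (Subgroup.closure_le _).2 (by
        rintro v (rfl | rfl)
        · exact Subgroup.mem_centralizer_singleton_iff.2 hfz.eq.symm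
        · exact Subgroup.mem_centralizer_singleton_iff.2 hyf.eq.symm) he
    have : Commute f e := (Subgroup.mem_centralizer_singleton_iff.1 hmem).symm
    exact hz1 (by rw [hzdef, this.eq, inv_mul_cancel])
  have hDcyc : IsCyclic D := by
    refine isCyclic_of_uniqueOrderP (hN.to_le (inf_le_left.trans hHN)) ?_ (Or.inr hp2)
    intro u v hu hv hu1
    obtain ⟨m, hm⟩ := Subgroup.mem_zpowers_iff.1 (huniq u u.2 (congrArg Subtype.val hu))
    obtain ⟨n, hn⟩ := Subgroup.mem_zpowers_iff.1 (huniq v v.2 (congrArg Subtype.val hv))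
    have hordz := orderOf_eq_prime hzp hz1
    have hmp : ¬ (p : ℤ) ∣ m := fun h => hu1 (Subtype.ext (by
      rw [← hm]; exact orderOf_dvd_iff_zpow_eq_one.1 (hordz.symm ▸ h)))
    obtain ⟨s, t, hst⟩ : ∃ s t : ℤ, s * m + t * p = 1 :=
      Int.isCoprime_iff_gcd_eq_one.2 (by
        rw [Int.gcd_comm]
        exact (Nat.Prime.coprime_iff_not_dvd hp').2 fun h => hmp (Int.natCast_dvd.2 h))
    refine Subgroup.mem_zpowers_iff.2 ⟨s * n, Subtype.ext ?_⟩
    rw [Subgroup.coe_zpow, ← hm, ← zpow_mul, ← hn]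
    rw [show m * (s * n) = n + p * (-(t * n)) by linear_combination n * hst, zpow_add, zpow_mul,
      zpow_natCast, hzp, one_zpow, mul_one]
  obtain ⟨⟨d, hdD⟩, hdgen⟩ := IsCyclic.exists_generator (α := D)
  obtain ⟨hdH, hde, hdf⟩ := (hD d).1 hdD
  have hdpow : ∀ g ∈ D, ∃ n : ℕ, g = d ^ n := fun g hg => by
    obtain ⟨n, hn⟩ := (isOfFinOrder_of_finite _).mem_powers_iff_mem_zpowers.2 (hdgen ⟨g, hg⟩)
    exact ⟨n, by simpa using (congrArg Subtype.val hn).symm⟩
  obtain ⟨q, hq⟩ := hdpow z hzD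
  -- images under the torus
  have hμe : (e ^ 2) ^ μ = e := by rw [← pow_mul, hμ, pow_succ, hep, one_mul]
  have hfμ : (f ^ μ) ^ 2 = f := by rw [← pow_mul, mul_comm, hμ, pow_succ, hfp, one_mul]
  let eN : N := ⟨e, hHN heH⟩
  let fN : N := ⟨f, hHN hfH⟩
  let zN : N := ⟨z, hHN hzH⟩
  have hτz : τ zN = z := by
    rw [show zN = (fN * eN)⁻¹ * (eN * fN) from Subtype.ext hzdef, map_mul, map_inv, map_mul,
      map_mul, hτe eN rfl, hτf fN rfl]
    have h1 : e ^ 2 * z ^ a * (f ^ μ * z ^ b) = (e ^ 2 * f ^ μ) * (z ^ a * z ^ b) := by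
      rw [mul_assoc (e ^ 2), ← mul_assoc (z ^ a), ← ((hfz.pow_left μ).pow_right a).eq]
      simp [mul_assoc]
    have h2 : f ^ μ * z ^ b * (e ^ 2 * z ^ a) = (f ^ μ * e ^ 2) * (z ^ a * z ^ b) := by
      rw [mul_assoc (f ^ μ), ← mul_assoc (z ^ b), ← ((hez.pow_left 2).pow_right b).eq,
        ((Commute.refl z).pow_pow a b).eq]
      simp [mul_assoc]
    rw [h1, h2, pow_mul_pow_comm hef hez hfz 2 μ, hμ, pow_succ z, hzp, one_mul,
      mul_assoc (f ^ μ * e ^ 2), ((((Commute.refl z).pow_right a).mul_right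
        ((Commute.refl z).pow_right b))).eq, ← mul_assoc (f ^ μ * e ^ 2) (z ^ a * z ^ b),
      inv_mul_cancel_left]
  have hτcomm : ∀ g : N, Commute e (g : G) → Commute z (τ g) → Commute e (τ g) := by
    intro g hg hgz
    have h : Commute (τ eN) (τ g) :=
      (show Commute eN g from Subtype.ext hg.eq).map τ
    rw [hτe eN rfl] at h
    have h2 : Commute (e ^ 2) (τ g) := by
      have := h.mul_left (hgz.pow_left a).inv_left
      simpa using this
    exact hμe ▸ h2.pow_left μ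
  let dN : N := ⟨d, hHN hdH⟩
  have hτd : τ dN ∈ D := by
    have hz' : Commute z (τ dN) :=
      hτz ▸ (show Commute zN dN from Subtype.ext (hDz d hdD).eq).map τ
    refine (hD _).2 ⟨hτH dN hdH, hτcomm dN hde hz', ?_⟩
    have h : Commute (τ fN) (τ dN) := (show Commute fN dN from Subtype.ext hdf.eq).map τ
    rw [hτf fN rfl] at h
    have h2 : Commute (f ^ μ) (τ dN) := by
      have := h.mul_left (hz'.pow_left b).inv_left
      simpa using this
    exact hfμ ▸ h2.pow_left 2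
  obtain ⟨ν, hν⟩ := hdpow _ hτd
  have hν1 : (ν : ZMod p) = ((1 : ℕ) : ZMod p) := by
    have h : z ^ ν = z ^ 1 := by
      rw [pow_one]
      calc z ^ ν = (τ dN) ^ q := by rw [hν, hq, ← pow_mul, ← pow_mul, mul_comm]
        _ = τ zN := by rw [← map_pow]; exact congrArg τ (Subtype.ext hq.symm)
        _ = z := hτz
    rw [ZMod.natCast_eq_natCast_iff, ← orderOf_eq_prime hzp hz1]
    exact pow_eq_pow_iff_modEq.1 h
  have hd1 : d ≠ 1 := fun h => hz1 (by rw [hq, h, one_pow])
  obtain ⟨r, hr⟩ := (IsPGroup.iff_orderOf.1 (hN.to_le (inf_le_left.trans hHN : D ≤ N))) ⟨d, hdD⟩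
  rw [Subgroup.orderOf_mk] at hr
  have hνp : ¬ p ∣ ν := fun h => by
    rw [(ZMod.natCast_eq_zero_iff ν p).2 h] at hν1
    simp at hν1
  -- the image of `x`
  set y := τ ⟨x, hxN⟩ with hy
  have hyN : y ∈ N := hτN _
  have hyz : Commute y z := hτz ▸ (show Commute (⟨x, hxN⟩ : N) zN from Subtype.ext hxz.eq).map τ
  have hye : Commute y e := (hτcomm ⟨x, hxN⟩ hxe.symm hyz.symm).symm
  have hyf : ∃ A : ℕ, y * f * y⁻¹ = f * e ^ 4 * z ^ A := by
    have h1 : y * (f ^ μ * z ^ b) * y⁻¹ = f ^ μ * z ^ b * (e ^ 2 * z ^ a) * z ^ j₁ := by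
      rw [← hτf fN rfl, ← hτe eN rfl, hy, ← map_inv, ← map_mul, ← map_mul, ← map_mul,
        show z ^ j₁ = τ (zN ^ j₁) by rw [map_pow, hτz], ← map_mul]
      exact congrArg τ (Subtype.ext (by simpa [eN, fN, zN] using hxf))
    have h2 : y * f ^ μ * y⁻¹ = f ^ μ * e ^ 2 * (z ^ a * z ^ j₁) := by
      rw [← mul_assoc y, mul_assoc (y * f ^ μ), (hyz.pow_right b).inv_left.eq.symm,
        ← mul_assoc, mul_assoc (f ^ μ) (z ^ b), ← mul_assoc (z ^ b),
        ← ((hez.pow_left 2).pow_right b).eq] at h1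
      have h3 : y * f ^ μ * y⁻¹ * z ^ b = f ^ μ * e ^ 2 * (z ^ a * z ^ j₁) * z ^ b := by
        rw [h1]
        simp only [mul_assoc, ← pow_add]
        rw [show b + a + j₁ = a + j₁ + b by omega]
      exact mul_right_cancel h3
    have hz2 : e ^ 2 * f ^ μ = f ^ μ * e ^ 2 * z := by
      rw [pow_mul_pow_comm hef hez hfz 2 μ, hμ, pow_succ z, hzp, one_mul]
    refine ⟨1 + (a + j₁) * 2, ?_⟩
    calc y * f * y⁻¹ = (y * f ^ μ * y⁻¹) ^ 2 := by rw [conj_pow, hfμ]
      _ = (f ^ μ * e ^ 2) ^ 2 * z ^ ((a + j₁) * 2) := by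
        rw [h2, ← pow_add, (((hfz.pow_left μ).mul_left (hez.pow_left 2)).pow_right _).mul_pow,
          ← pow_mul z]
      _ = f * e ^ 4 * z * z ^ ((a + j₁) * 2) := by
        rw [mul_pow_comm hz2 (hfz.pow_left μ).symm (hez.pow_left 2).symm, hfμ, ← pow_mul,
          Nat.choose_self, pow_one]
      _ = _ := by rw [pow_add, pow_one]; simp [mul_assoc]
  obtain ⟨A, hyf⟩ := hyf
  have hxn : ∀ n : ℕ, x ^ n * f * (x ^ n)⁻¹ = f * e ^ n * z ^ (n * j₁) := by
    intro n
    induction n with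
    | zero => simp
    | succ n ih =>
      calc _ = x * (x ^ n * f * (x ^ n)⁻¹) * x⁻¹ := by
            rw [pow_succ' x, mul_inv_rev]; simp [mul_assoc]
        _ = (x * f * x⁻¹) * (x * (e ^ n * z ^ (n * j₁)) * x⁻¹) := by
            rw [ih]; simp [mul_assoc]
        _ = f * e * z ^ j₁ * (e ^ n * z ^ (n * j₁)) := by
            rw [hxf, ((hxe.pow_right n).mul_right (hxz.pow_right (n * j₁))).eq,
              mul_inv_cancel_right]
        _ = _ := by
            rw [mul_assoc (f * e), ← mul_assoc (z ^ j₁), ← ((hez.pow_left n).pow_right j₁).eq,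
              mul_assoc (e ^ n), ← pow_add, add_mul, one_mul, add_comm, pow_succ' e]
            simp [mul_assoc]
  set w := (x ^ 4)⁻¹ * y with hw
  have hwN : w ∈ N := N.mul_mem (N.inv_mem (N.pow_mem hxN 4)) hyN
  have hwe : Commute w e := ((hxe.pow_left 4).inv_left).mul_left hye
  have hwz : Commute w z := ((hxz.pow_left 4).inv_left).mul_left hyz
  have hwH : w ∈ H := by
    refine hker w hwN 0 (A + (p - 1) * (4 * j₁))
      (by rw [pow_zero, mul_one, hwe.eq, mul_inv_cancel_right]) ?_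
    calc w * f * w⁻¹ = (x ^ 4)⁻¹ * (y * f * y⁻¹) * x ^ 4 := by rw [hw]; simp [mul_assoc]
      _ = (x ^ 4)⁻¹ * ((x ^ 4 * f * (x ^ 4)⁻¹) * z ^ (A + (p - 1) * (4 * j₁))) * x ^ 4 := by
          rw [hyf, hxn, mul_assoc (f * e ^ 4) (z ^ (4 * j₁)), ← pow_add,
            show 4 * j₁ + (A + (p - 1) * (4 * j₁)) = A + p * (4 * j₁) by
              rw [Nat.sub_mul, one_mul]
              have := Nat.le_mul_of_pos_left (4 * j₁) hp'.pos
              omega, pow_add z A, pow_mul, hzp, one_pow, mul_one]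
      _ = f * ((x ^ 4)⁻¹ * z ^ (A + (p - 1) * (4 * j₁)) * x ^ 4) := by simp [mul_assoc]
      _ = _ := by rw [((hxz.pow_left 4).pow_right _).inv_left.eq, inv_mul_cancel_right]
  -- `w = e^i δ`
  obtain ⟨i, δ, hwδ, hwd⟩ : ∃ i m : ℕ, w = e ^ i * d ^ m ∧ Commute w d := by
    obtain ⟨_, i, -, hwf⟩ := hH w hwH
    have hδ : (e ^ i)⁻¹ * w ∈ D := by
      refine (hD _).2 ⟨H.mul_mem (H.inv_mem (H.pow_mem heH i)) hwH,
        ((Commute.refl e).pow_right i).inv_right.mul_right hwe.symm, ?_⟩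
      show f * ((e ^ i)⁻¹ * w) = (e ^ i)⁻¹ * w * f
      calc f * ((e ^ i)⁻¹ * w) = (e ^ i)⁻¹ * (e ^ i * f) * (e ^ i)⁻¹ * w := by simp [mul_assoc]
        _ = (e ^ i)⁻¹ * (f * z ^ i) * w := by
          rw [hefn, mul_assoc f, ((hez.pow_left i).pow_right i).eq]
          simp [mul_assoc]
        _ = (e ^ i)⁻¹ * (w * f * w⁻¹) * w := by rw [hwf]
        _ = _ := by simp [mul_assoc]
    obtain ⟨m, hm⟩ := hdpow _ hδ
    have : w = e ^ i * d ^ m := by rw [← hm, mul_inv_cancel_left]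
    exact ⟨i, m, this, this ▸ (hde.pow_left i).mul_left ((Commute.refl d).pow_left m)⟩
  -- `x` centralises `d`
  have hxd : Commute x d := by
    obtain ⟨s, hs⟩ := hdpow (x * d * x⁻¹) ((hD _).2 ⟨hnorm x hxN d hdH, by
      have h := (Commute.conj_iff x).2 hde
      rwa [hxe.eq, mul_inv_cancel_right] at h, by
      have h := (Commute.conj_iff x).2 hdf
      rw [hxf] at h
      have he' : Commute e (x * d * x⁻¹) := by
        have h2 := (Commute.conj_iff x).2 hde
        rwa [hxe.eq, mul_inv_cancel_right] at h2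
      have hz' : Commute z (x * d * x⁻¹) := by
        have h2 := (Commute.conj_iff x).2 (hDz d hdD)
        rwa [hxz.eq, mul_inv_cancel_right] at h2
      have := (h.mul_left (hz'.pow_left j₁).inv_left).mul_left he'.inv_left
      simpa using this⟩)
    have h1 : y * d ^ ν * y⁻¹ = (d ^ ν) ^ s := by
      rw [← hν, hy, ← map_inv, ← map_mul, ← map_mul, ← map_pow]
      exact congrArg τ (Subtype.ext hs)
    have hy4 : y = x ^ 4 * w := by rw [hw, mul_inv_cancel_left]
    rw [hy4, mul_inv_rev] at h1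
    have h2 : x ^ 4 * d ^ ν * (x ^ 4)⁻¹ = x * d ^ ν * x⁻¹ := by
      rw [show x * d ^ ν * x⁻¹ = (d ^ ν) ^ s by rw [← conj_pow, hs, ← pow_mul, ← pow_mul, mul_comm],
        ← h1, mul_assoc (x ^ 4) w, (hwd.pow_right ν).eq]
      simp [mul_assoc]
    have h3 : Commute (x ^ 3) (d ^ ν) := by
      have h4 : x * (x ^ 3 * d ^ ν * (x ^ 3)⁻¹) * x⁻¹ = x * d ^ ν * x⁻¹ := by
        rw [← h2, show 4 = 1 + 3 from rfl, pow_add, pow_one]
        simp [mul_assoc]
      exact mul_inv_eq_iff_eq_mul.1 (mul_left_cancel (mul_right_cancel h4))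
    obtain ⟨t, ht⟩ := exists_pow_eq_self_of_coprime (x := d) (n := ν)
      (by rw [hr]; exact Nat.Coprime.pow_right r ((hp'.coprime_iff_not_dvd.2 hνp).symm))
    obtain ⟨k, hk⟩ := IsPGroup.iff_orderOf.1 hN ⟨x, hxN⟩
    rw [Subgroup.orderOf_mk] at hk
    obtain ⟨u, hu⟩ := exists_pow_eq_self_of_coprime (x := x) (n := 3) (by
      rw [hk]
      refine Nat.Coprime.pow_right k ((Nat.coprime_primes Nat.prime_three hp').2 ?_)
      omega)
    exact hu ▸ ht ▸ (h3.pow_pow u t)
  -- `x ^ p` lies in `D`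
  have hxpf : x ^ p * f * (x ^ p)⁻¹ = f := by
    rw [hxn, hep, mul_one, pow_mul, hzp, one_pow, mul_one]
  obtain ⟨l, hl⟩ := hdpow (x ^ p) ((hD _).2 ⟨hker _ (N.pow_mem hxN p) 0 0
    (by rw [pow_zero, mul_one, (hxe.pow_left p).eq, mul_inv_cancel_right])
    (by rw [pow_zero, mul_one, hxpf]), (hxe.pow_left p).symm,
    (mul_inv_eq_iff_eq_mul.1 hxpf).symm⟩)
  have hpl : p ∣ l := by
    have h1 : y ^ p = (d ^ ν) ^ l := by
      rw [← hν, hy, ← map_pow, ← map_pow]
      exact congrArg τ (Subtype.ext (by simpa [dN] using hl))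
    have hy4 : y = x ^ 4 * w := by rw [hw, mul_inv_cancel_left]
    have hxw : Commute (x ^ 4) w := by
      rw [hwδ]
      exact ((hxe.pow_pow 4 i)).mul_right (hxd.pow_pow 4 δ)
    rw [hy4, hxw.mul_pow, ← pow_mul x, mul_comm 4 p, pow_mul, hl, hwδ,
      (hde.pow_pow i δ).mul_pow, ← pow_mul e, mul_comm i p, pow_mul e, hep, one_pow, one_mul,
      ← pow_mul, ← pow_mul, ← pow_mul, ← pow_add, pow_eq_pow_iff_modEq] at h1
    have hr0 : r ≠ 0 := fun h0 => hd1 (orderOf_eq_one_iff.1 (by rw [hr, h0, pow_zero]))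
    have h2 := (ZMod.natCast_eq_natCast_iff _ _ p).2 (h1.of_dvd (hr ▸ dvd_pow_self p hr0))
    have h3 : ((3 * l : ℕ) : ZMod p) = ((0 : ℕ) : ZMod p) := by
      push_cast at h2 hν1 ⊢
      rw [hν1, ZMod.natCast_self] at h2
      linear_combination h2
    rw [ZMod.natCast_eq_natCast_iff, Nat.modEq_zero_iff_dvd] at h3
    refine (hp'.dvd_mul.1 h3).resolve_left fun h => ?_
    have := Nat.le_of_dvd (by norm_num) h
    omega
  obtain ⟨l, rfl⟩ := hpl
  -- an elementary abelian subgroup of order `p³`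
  refine triple_false hN hrank (hHN hzH) (hHN heH)
    (N.mul_mem hxN (N.inv_mem (N.pow_mem (hHN hdH) l))) hzp hep ?_ hez.symm ?_ ?_ hz1 hezf ?_
  · rw [((hxd.pow_right l).inv_right).mul_pow, hl, inv_pow, ← pow_mul, mul_comm, mul_inv_cancel]
  · exact hxz.symm.mul_right ((hDz d hdD).pow_right l).inv_right
  · exact hxe.symm.mul_right (hde.pow_right l).inv_right
  · intro h
    refine hxH ((H.mul_mem_cancel_right (H.inv_mem (H.pow_mem hdH l))).1 ?_)
    exact ((Subgroup.closure_le H).2 (by rintro v (rfl | rfl); exacts [hzH, heH])) h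

end CfsgLib.FusionRankTwo
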