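import Cfsg.Agent.FusionRankTwo.ElementaryFalse
import Cfsg.Agent.FusionRankTwo.Weights
import Cfsg.Agent.FusionEssential.AbelianRankTwo
import Cfsg.Agent.FusionEssential.OrderCube
import Cfsg.Agent.OddOrder.BG4.Aut2
import Cfsg.Agent.Fusion.NormalSubgroup
import Mathlib.GroupTheory.FixedPointFree

/-!
# `p`-groups of rank two are resistant for `p ≥ 5`, except `p^{1+2}` of exponent `p`
-/

set_option autoImplicit false
set_option linter.style.haveILetI false

namespace CfsgLib.FusionRankTwo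

open Cfsg Cfsg.FusionSystem CfsgLib.Fusion CfsgLib.FusionEssential
open scoped commutatorElement

variable {Ω : Type*} [Group Ω] {S : Subgroup Ω} {F : FusionSystem S} {H : Subgroup Ω} {p : ℕ}
  [Finite S] [Fact p.Prime]

/-- No abelian critical subgroup. -/
theorem abelian_false (hS : IsPGroup p S) (hF : F.IsSaturated p) (hp5 : 5 ≤ p)
    (hrank3 : ∀ E : Subgroup Ω, E ≤ S → Cfsg.IsElementaryAbelian p E → Nat.card E ≤ p ^ 2)
    (hnotE : ¬ (Nat.card S = p ^ 3 ∧ Monoid.exponent ↥S = p))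
    (hess : F.IsEssential p H) (hrk : Cfsg.PRankLE p 2 ↥H) {Q : Subgroup ↥H} (hQ : Q.Characteristic)
    (hQp : ∀ q ∈ Q, q ^ p = 1)
    (hQf : ∀ a : MulAut ↥H, (orderOf a).Coprime p → (∀ q ∈ Q, a q = q) → a = 1)
    (hc : IsMulCommutative Q) : False := by
  have hp : p.Prime := Fact.out
  have hp2 : p ≠ 2 := by omega
  have hH := hess.1.1
  have hfin := finite_of_le hH
  haveI := hQ
  set ψ : F.autGroup H →* MulAut Q := (MulAut.characteristic Q).comp (F.autGroup H).subtype with hψ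
  have hψv : ∀ (α : F.autGroup H) (q : Q), ((ψ α) q : ↥H) = (α : MulAut H) q := fun _ _ => rfl
  have hker : IsPGroup p ψ.ker := by
    have h : IsPGroup p (ψ.ker.map (F.autGroup H).subtype) := by
      refine OddOrder.BG4.isPGroup_of_coprime_trivial ?_
      rintro _ ⟨α, hα, rfl⟩ hco
      refine hQf _ hco fun q hq => ?_
      have h1 := DFunLike.congr_fun (MonoidHom.mem_ker.1 hα) (⟨q, hq⟩ : Q)
      exact congrArg Subtype.val h1
    exact h.of_equiv (ψ.ker.equivMapOfInjective _ (Subgroup.subtype_injective _)).symm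
  have hQc : ∀ a b : Q, a * b = b * a := fun a b => hc.is_comm.comm a b
  have hQexp : ∀ a : Q, a ^ p = 1 := fun a => Subtype.ext (hQp a a.2)
  have hQd : Nat.card Q = p ^ 2 := by
    by_contra hne
    obtain ⟨α, β, -, -, hαβ⟩ := exists_noncommute_of_hom hess ψ hker
    haveI := OddOrder.BG4.isCyclic_of_card_le_prime hQexp (hrk Q hc hQp) hne
    exact hαβ (mulAut_commute_of_isCyclic _ _)
  -- `H` centralises `Q`
  have hcen : ∀ g : ↥H, ∀ q ∈ Q, g * q = q * g := by
    intro g q hq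
    have h1 := normAut_eq_one_of_mem hS hess ψ hker hQc hQexp hQd
      ⟨g, le_normalizerIn hH g.2⟩ g.2
    have h2 := congrArg Subtype.val (DFunLike.congr_fun h1 (⟨q, hq⟩ : Q))
    have h3 : g * q * g⁻¹ = q := Subtype.ext (congrArg Subtype.val h2)
    exact mul_inv_eq_iff_eq_mul.1 h3
  -- every element of order `p` lies in `Q`
  have hΩ : ∀ y : ↥H, y ^ p = 1 → y ∈ Q := by
    intro y hy
    set A := Subgroup.closure ((Q : Set ↥H) ∪ {y}) with hA
    have hgen : ∀ u ∈ ((Q : Set ↥H) ∪ {y}), ∀ v ∈ ((Q : Set ↥H) ∪ {y}), u * v = v * u := by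
      rintro u (hu | rfl) v (hv | rfl)
      · exact hcen u v hv
      · exact (hcen _ u hu).symm
      · exact hcen _ v hv
      · rfl
    haveI hAc : IsMulCommutative A := Subgroup.isMulCommutative_closure hgen
    have hAp : ∀ a ∈ A, a ^ p = 1 := by
      intro a ha
      induction ha using Subgroup.closure_induction with
      | mem v hv => rcases hv with hv | rfl
                    exacts [hQp v hv, hy]
      | one => exact one_pow p
      | mul u v hu hv iu iv => rw [(show Commute u v from setLike_mul_comm (s := A) hu hv).mul_pow,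
          iu, iv, one_mul]
      | inv u _ iu => rw [inv_pow, iu, inv_one]
    have hQA : Q = A := Subgroup.eq_of_le_of_card_ge
      (fun q hq => Subgroup.subset_closure (Or.inl hq)) ((hrk A hAc hAp).trans hQd.ge)
    exact hQA.ge (Subgroup.subset_closure (Or.inr rfl))
  obtain ⟨x, hx⟩ := exists_normalizer_not_mem hS hF hess
  obtain ⟨e, f, -, -, -, -, hspan, -, htor⟩ :=
    exists_frame hS hess ψ hker hQc hQexp hQd hF x hx
  have hm : ((p - 1 : ℕ) : ZMod p) * ((p - 1 : ℕ) : ZMod p) = 1 := by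
    rw [Nat.cast_sub hp.one_le]; simp
  obtain ⟨-, -, t, -, -, -, hte, htf⟩ := htor (p - 1) (p - 1) hm
  have hinv : ∀ q : Q, ψ t q = q⁻¹ := by
    intro q
    have hp1 : ∀ v : Q, v ^ (p - 1) = v⁻¹ := fun v => eq_inv_of_mul_eq_one_left (by
      rw [← pow_succ, Nat.sub_add_cancel hp.one_le, hQexp])
    obtain ⟨r, s, rfl⟩ := hspan q
    rw [map_mul, map_pow, map_pow, hte, htf, hp1, hp1, mul_inv_rev, inv_pow, inv_pow]
    exact hQc _ _
  -- an involution inverting `Q`
  obtain ⟨t', ht'2, ht'inv⟩ : ∃ t' : F.autGroup H, t' ^ 2 = 1 ∧ ∀ q : Q, ψ t' q = q⁻¹ := by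
    have hsq : ψ t ^ 2 = 1 := MulEquiv.ext fun q => by
      rw [pow_two, MulAut.mul_apply, hinv, hinv, inv_inv]; rfl
    obtain ⟨k, hk⟩ := hker ⟨t ^ 2, by rw [MonoidHom.mem_ker, map_pow, hsq]⟩
    refine ⟨t ^ p ^ k, ?_, fun q => ?_⟩
    · rw [← pow_mul, mul_comm, pow_mul]
      simpa using congrArg Subtype.val hk
    · obtain ⟨c, hc⟩ : Odd (p ^ k) := (hp.odd_of_ne_two hp2).pow
      rw [map_pow, hc, pow_succ, pow_mul, hsq, one_pow, one_mul, hinv]
  have hinvol : Function.Involutive ((t' : MulAut H) : ↥H →* ↥H) := fun y => by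
    show (t' : MulAut H) ((t' : MulAut H) y) = y
    rw [← MulAut.mul_apply, ← Subgroup.coe_mul, ← pow_two, ht'2]
    rfl
  have hfpf : MonoidHom.FixedPointFree ((t' : MulAut H) : ↥H →* ↥H) := by
    intro y hy
    by_contra hne
    have hy1 : orderOf y ≠ 1 := fun h => hne (orderOf_eq_one_iff.1 h)
    obtain ⟨k, hk⟩ := IsPGroup.iff_orderOf.1 (hS.to_le hH) y
    obtain ⟨k', rfl⟩ : ∃ k', k = k' + 1 :=
      Nat.exists_eq_succ_of_ne_zero fun h0 => hy1 (by rw [hk, h0, pow_zero])
    set z := y ^ p ^ k' with hz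
    have hzp : z ^ p = 1 := by rw [hz, ← pow_mul, ← pow_succ, ← hk, pow_orderOf_eq_one]
    have hz1 : z ≠ 1 := fun h => by
      have := Nat.le_of_dvd (pow_pos hp.pos _) (hk ▸ orderOf_dvd_of_pow_eq_one h)
      have := (Nat.pow_le_pow_iff_right hp.one_lt).1 this
      omega
    have h1 : (t' : MulAut H) z = z := by
      rw [hz, map_pow, show (t' : MulAut H) y = y from hy]
    have h2 := congrArg Subtype.val (ht'inv ⟨z, hΩ z hzp⟩)
    rw [hψv] at h2
    have h3 : z * z = 1 := by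
      have h4 : z = z⁻¹ := h1.symm.trans h2
      nth_rw 2 [h4]
      exact mul_inv_cancel z
    obtain ⟨c, hc⟩ := hp.odd_of_ne_two hp2
    rw [hc, pow_succ, pow_mul, pow_two, h3, one_pow, one_mul] at hzp
    exact hz1 hzp
  have hHc : ∀ a b : ↥H, a * b = b * a := fun a b => (hfpf.commute_all_of_involutive hinvol a b).eq
  have hidx : (frattini ↥H).index ≤ p ^ 2 := by
    letI : CommGroup ↥H := { (inferInstance : Group ↥H) with mul_comm := hHc }
    rw [frattini_eq_powRange p (hS.to_le hH)]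
    have h1 := card_powRange_mul (H := ↥H) p 1
    rw [← Subgroup.card_mul_index (powRange (H := ↥H) p 1)] at h1
    rw [← Nat.eq_of_mul_eq_mul_left Nat.card_pos h1]
    refine (Subgroup.card_le_of_le (fun y hy => hΩ y ?_)).trans hQd.le
    rw [MonoidHom.mem_ker, powMonoidHom_apply, pow_one] at hy
    exact hy
  obtain ⟨n, -, hexp, hcard, hn, -⟩ := isEssential_abelian_rank_two hS hess hHc hidx
  obtain rfl := hn hp5
  exact elementary_false hS hF hp5 hrank3 hnotE hess hHc (fun a => by simpa using hexp a)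
    (by simpa using hcard)

/-- No non-abelian critical subgroup. -/
theorem extraspecial_false (hS : IsPGroup p S) (hF : F.IsSaturated p) (hp5 : 5 ≤ p)
    (hrank3 : ∀ E : Subgroup Ω, E ≤ S → Cfsg.IsElementaryAbelian p E → Nat.card E ≤ p ^ 2)
    (hess : F.IsEssential p H) {Q : Subgroup ↥H} (hQ : Q.Characteristic)
    (hQp : ∀ q ∈ Q, q ^ p = 1)
    (hQf : ∀ a : MulAut ↥H, (orderOf a).Coprime p → (∀ q ∈ Q, a q = q) → a = 1)
    (hc : ¬ IsMulCommutative Q) (hQd : Nat.card Q = p ^ 3) : False := by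
  have hp : p.Prime := Fact.out
  have hH := hess.1.1
  have hfin := finite_of_le hH
  haveI := hQ
  obtain ⟨hWp, hWc, -, -⟩ := center_of_card_cube hQd hc
  set W := Subgroup.center ↥Q with hW
  let ψ₁ : MulAut ↥H →* MulAut (↥Q ⧸ W) :=
    { toFun := fun a => QuotientGroup.congr W W (MulAut.characteristic Q a)
        (Subgroup.characteristic_iff_map_eq.1 inferInstance _)
      map_one' := by
        ext v
        obtain ⟨y, rfl⟩ := QuotientGroup.mk_surjective v
        rfl
      map_mul' := fun a b => by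
        ext v
        obtain ⟨y, rfl⟩ := QuotientGroup.mk_surjective v
        rfl }
  set ψ : F.autGroup H →* MulAut (↥Q ⧸ W) := ψ₁.comp (F.autGroup H).subtype with hψ
  have hψv : ∀ (α : F.autGroup H) (q : Q), ψ α (q : ↥Q ⧸ W) =
      ((MulAut.characteristic Q (α : MulAut H) q : Q) : ↥Q ⧸ W) := fun _ _ => rfl
  have hker : IsPGroup p ψ.ker := by
    have h : IsPGroup p (ψ.ker.map (F.autGroup H).subtype) := by
      refine OddOrder.BG4.isPGroup_of_coprime_trivial ?_
      rintro _ ⟨α, hα, rfl⟩ hco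
      set a : MulAut ↥H := (α : MulAut H)
      set φ := MulAut.characteristic Q a with hφ
      have hd : ∀ q : Q, ∃ s ∈ W, φ q = s * q := by
        intro q
        have h1 := DFunLike.congr_fun (MonoidHom.mem_ker.1 hα) (q : ↥Q ⧸ W)
        rw [hψv, MulAut.one_apply] at h1
        exact ⟨φ q * q⁻¹, by
          have h2 := (QuotientGroup.eq_iff_div_mem).1 h1
          rwa [div_eq_mul_inv] at h2, by rw [inv_mul_cancel_right]⟩
      have hfixW : ∀ z ∈ W, φ z = z := by
        intro z hz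
        rw [show W = commutator ↥Q from hWc.symm, commutator_eq_closure] at hz
        induction hz using Subgroup.closure_induction with
        | mem v hv =>
          obtain ⟨u, w, rfl⟩ := hv
          obtain ⟨s, hs, hu⟩ := hd u
          obtain ⟨s', hs', hw⟩ := hd w
          rw [map_commutatorElement, hu, hw]
          have h1 := Subgroup.mem_center_iff.1 hs
          have h2 := Subgroup.mem_center_iff.1 hs'
          simp only [commutatorElement_def, mul_inv_rev]
          calc s * u * (s' * w) * (u⁻¹ * s⁻¹) * (w⁻¹ * s'⁻¹)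
              = s * (u * s') * w * u⁻¹ * (s⁻¹ * w⁻¹) * s'⁻¹ := by group
            _ = s * (s' * u) * w * u⁻¹ * (w⁻¹ * s⁻¹) * s'⁻¹ := by
              rw [h2 u, ← mul_inv_rev, h1 w, mul_inv_rev]
            _ = s * (s' * (u * w * u⁻¹ * w⁻¹)) * s⁻¹ * s'⁻¹ := by group
            _ = s * ((u * w * u⁻¹ * w⁻¹) * s') * s⁻¹ * s'⁻¹ := by rw [← h2 (u * w * u⁻¹ * w⁻¹)]
            _ = (u * w * u⁻¹ * w⁻¹) * (s * s') * s⁻¹ * s'⁻¹ := by
              rw [← mul_assoc s, ← h1 (u * w * u⁻¹ * w⁻¹)]; group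
            _ = u * w * u⁻¹ * w⁻¹ := by rw [← h1 s']; group
        | one => exact map_one φ
        | mul u v _ _ iu iv => rw [map_mul, iu, iv]
        | inv u _ iu => rw [map_inv, iu]
      refine hQf _ hco fun q hq => ?_
      obtain ⟨s, hs, hqs⟩ := hd ⟨q, hq⟩
      have h1 := OddOrder.BG4.autPow_apply (R := ↥Q) (hfixW s hs) hqs (orderOf a)
      have h2 : φ ^ orderOf a = 1 := by rw [hφ, ← map_pow, pow_orderOf_eq_one, map_one]
      rw [h2, MulAut.one_apply] at h1
      have h3 : orderOf s ∣ orderOf a := orderOf_dvd_of_pow_eq_one (by simpa using h1.symm)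
      have h4 : orderOf s ∣ p := orderOf_dvd_of_pow_eq_one (Subtype.ext (hQp s s.2))
      have h5 : s = 1 := orderOf_eq_one_iff.1 (Nat.eq_one_of_dvd_coprimes hco h3 h4)
      rw [h5, one_mul] at hqs
      exact congrArg Subtype.val hqs
    exact h.of_equiv (ψ.ker.equivMapOfInjective _ (Subgroup.subtype_injective _)).symm
  have hVd : Nat.card (↥Q ⧸ W) = p ^ 2 := by
    have := Subgroup.card_mul_index W
    rw [hWp, hQd, show p ^ 3 = p * p ^ 2 by ring] at this
    rw [← Subgroup.index_eq_card]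
    exact Nat.eq_of_mul_eq_mul_left hp.pos this
  have hVc : ∀ a b : ↥Q ⧸ W, a * b = b * a :=
    (IsPGroup.isMulCommutative_of_card_eq_prime_sq hVd).is_comm.comm
  have hVexp : ∀ a : ↥Q ⧸ W, a ^ p = 1 := by
    intro a
    obtain ⟨y, rfl⟩ := QuotientGroup.mk_surjective a
    rw [← QuotientGroup.mk_pow, show y ^ p = 1 from Subtype.ext (hQp y y.2), QuotientGroup.mk_one]
  obtain ⟨x, hx⟩ := exists_normalizer_not_mem hS hF hess
  obtain ⟨eV, fV, -, -, hue, huf, hspan, -, htor⟩ :=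
    exists_frame hS hess ψ hker hVc hVexp hVd hF x hx
  obtain ⟨e, rfl⟩ := QuotientGroup.mk_surjective eV
  obtain ⟨f, rfl⟩ := QuotientGroup.mk_surjective fV
  set z : Q := (f * e)⁻¹ * (e * f) with hz
  have hzW : z ∈ W := by
    rw [← QuotientGroup.eq_one_iff, hz, QuotientGroup.mk_mul, QuotientGroup.mk_inv,
      QuotientGroup.mk_mul, QuotientGroup.mk_mul, hVc (e : ↥Q ⧸ W) (f : ↥Q ⧸ W), inv_mul_cancel]
  have hdec : ∀ q : Q, ∃ r s : ℕ, ∃ w ∈ W, q = e ^ r * f ^ s * w := by
    intro q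
    obtain ⟨r, s, h⟩ := hspan q
    rw [← QuotientGroup.mk_pow, ← QuotientGroup.mk_pow, ← QuotientGroup.mk_mul] at h
    exact ⟨r, s, _, QuotientGroup.eq.1 h.symm, (mul_inv_cancel_left _ _).symm⟩
  have hz1 : z ≠ 1 := by
    intro h
    rw [hz, inv_mul_eq_one] at h
    have hef : Commute e f := h.symm
    refine hc ⟨⟨fun u v => ?_⟩⟩
    obtain ⟨r, s, w, hw, rfl⟩ := hdec u
    obtain ⟨r', s', w', hw', rfl⟩ := hdec v
    have h1 : ∀ {w : Q}, w ∈ W → ∀ g, Commute w g := fun hw g =>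
      (Subgroup.mem_center_iff.1 hw g).symm
    refine (((((Commute.refl e).pow_pow r r').mul_right (hef.pow_pow r s')).mul_left
      ((hef.symm.pow_pow s r').mul_right ((Commute.refl f).pow_pow s s'))).mul_right
      ((h1 hw' _).symm)).mul_left (h1 hw _)
  have hWz : ∀ w ∈ W, ∃ n : ℕ, w = z ^ n := by
    intro w hw
    have hne : (⟨z, hzW⟩ : W) ≠ 1 := fun h => hz1 (congrArg Subtype.val h)
    obtain ⟨n, hn⟩ := (isOfFinOrder_of_finite (⟨z, hzW⟩ : W)).mem_powers_iff_mem_zpowers.2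
      (zpowers_eq_top_of_prime_card hWp hne ▸ Subgroup.mem_top (⟨w, hw⟩ : W))
    exact ⟨n, by simpa using (congrArg Subtype.val hn).symm⟩
  have hval : ∀ (q q' : Q), (q : ↥Q ⧸ W) = q' → ∃ n : ℕ, (q' : ↥H).1 = (q : ↥H).1 * (z : ↥H).1 ^ n := by
    intro q q' h
    obtain ⟨n, hn⟩ := hWz _ (QuotientGroup.eq.1 h)
    refine ⟨n, ?_⟩
    have h2 : q' = q * z ^ n := by rw [← hn, mul_inv_cancel_left]
    rw [h2]
    simp
  have hψval : ∀ (α : F.autGroup H) (q q' : Q), ψ α q = (q' : ↥Q ⧸ W) →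
      ∃ n : ℕ, ((α : MulAut H) q : Ω) = (q' : ↥H).1 * (z : ↥H).1 ^ n := by
    intro α q q' h
    rw [hψv] at h
    exact hval _ _ h.symm
  have hzc : ∀ q : Q, Commute (q : ↥H).1 (z : ↥H).1 := fun q =>
    congrArg (fun v : Q => (v : ↥H).1) (Subgroup.mem_center_iff.1 hzW q)
  obtain ⟨i₀, hxe⟩ := hψval (normAut F hH x) e e hue
  obtain ⟨j₀, hxf⟩ := hψval (normAut F hH x) f (f * e) (huf.trans (QuotientGroup.mk_mul W f e).symm)
  have hp2 : p ≠ 2 := by omega
  obtain ⟨τ, hτ, t, hτt, -, hτN, hte, htf⟩ := htor 2 ((p + 1) / 2) (two_mul_half hp2).2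
  rw [← QuotientGroup.mk_pow] at hte htf
  obtain ⟨a, ha⟩ := hψval t e _ hte
  obtain ⟨b, hb⟩ := hψval t f _ htf
  haveI := finite_of_le (normalizerIn_le S H)
  refine weights_false hp5 (hS.to_le (normalizerIn_le S H))
    (fun A hA => hrank3 A (hA.trans (normalizerIn_le S H))) (le_normalizerIn hH)
    (fun g hg h hh => (Subgroup.mem_normalizer_iff.1 hg.2 h).1 hh)
    (e := (e : ↥H).1) (f := (f : ↥H).1) (z := (z : ↥H).1) (SetLike.coe_mem _) (SetLike.coe_mem _)
    ?_ ?_ (congrArg Subtype.val (hQp e e.2)) (congrArg Subtype.val (hQp f f.2))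
    (congrArg Subtype.val (hQp z z.2)) (hzc e) (hzc f) ?_ ?_ x.2 hx hxe hxf τ hτN ?_
    (a := a) (b := b) ?_ ?_
  · have : e * f = f * e * z := by rw [hz, mul_inv_cancel_left]
    simpa using congrArg (fun v : Q => (v : ↥H).1) this
  · exact fun h => hz1 (Subtype.ext (Subtype.ext h))
  · intro g hg
    have h1 := normAut_eq_one_of_mem hS hess ψ hker hVc hVexp hVd ⟨g, le_normalizerIn hH hg⟩ hg
    obtain ⟨i, hi⟩ := hψval (normAut F hH ⟨g, le_normalizerIn hH hg⟩) e e (by rw [h1]; rfl)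
    obtain ⟨j, hj⟩ := hψval (normAut F hH ⟨g, le_normalizerIn hH hg⟩) f f (by rw [h1]; rfl)
    exact ⟨i, j, hi, hj⟩
  · intro g hg i j hi hj
    refine mem_of_ker hess ψ hker ⟨g, hg⟩ (MulEquiv.ext fun v => ?_)
    have key : ∀ q : Q, ∀ n : ℕ, g * (q : ↥H).1 * g⁻¹ = (q : ↥H).1 * (z : ↥H).1 ^ n →
        ψ (normAut F hH ⟨g, hg⟩) (q : ↥Q ⧸ W) = q := by
      intro q n h
      rw [hψv]
      have h2 : MulAut.characteristic Q (normAut F hH ⟨g, hg⟩ : MulAut H) q = q * z ^ n :=
        Subtype.ext (Subtype.ext (h.trans (by simp)))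
      rw [h2, QuotientGroup.mk_mul, QuotientGroup.mk_pow, (QuotientGroup.eq_one_iff z).2 hzW,
        one_pow, mul_one]
    obtain ⟨r, s, rfl⟩ := hspan v
    rw [map_mul, map_pow, map_pow, key e i hi, key f j hj]
    rfl
  · intro g hg
    rw [show g = Subgroup.inclusion (le_normalizerIn hH) ⟨g, hg⟩ from rfl, hτt]
    exact SetLike.coe_mem _
  · intro g hg
    rw [show g = Subgroup.inclusion (le_normalizerIn hH) (e : ↥H) from Subtype.ext hg, hτt, ha]
    simp
  · intro g hg
    rw [show g = Subgroup.inclusion (le_normalizerIn hH) (f : ↥H) from Subtype.ext hg, hτt, hb]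
    simp

/-- `p`-groups of rank two other than `p^{1+2}` of exponent `p` are resistant for `p ≥ 5`. -/
theorem isNormal_of_rank_two (hS : IsPGroup p S) (hF : F.IsSaturated p) (hp5 : 5 ≤ p)
    (hrank3 : ∀ E : Subgroup Ω, E ≤ S → Cfsg.IsElementaryAbelian p E → Nat.card E ≤ p ^ 2)
    (hnotE : ¬ (Nat.card S = p ^ 3 ∧ Monoid.exponent ↥S = p)) : F.IsNormal S := by
  refine isNormal_of_essential hS hF le_rfl fun P hP => ?_
  rcases hP with rfl | hess
  · exact ⟨le_rfl, fun α _ x _ => (α x).2⟩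
  exfalso
  have hH := hess.1.1
  have hfin := finite_of_le hH
  have hp2 : p ≠ 2 := by omega
  have hrk : Cfsg.PRankLE p 2 ↥P := by
    intro A hAc hAp
    rw [← Subgroup.card_map_of_injective P.subtype_injective]
    refine hrank3 _ ((Subgroup.map_subtype_le A).trans hH)
      ⟨⟨⟨?_⟩⟩, fun v hv => ?_⟩
    · rintro ⟨_, u, hu, rfl⟩ ⟨_, v, hv, rfl⟩
      haveI := hAc
      exact Subtype.ext ((map_mul P.subtype u v).symm.trans
        ((congrArg P.subtype (setLike_mul_comm (s := A) hu hv)).trans (map_mul P.subtype v u)))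
    · obtain ⟨u, hu, rfl⟩ := hv
      exact congrArg Subtype.val (hAp u hu)
  obtain ⟨Q, hQ, hQp, -, hQf⟩ := OddOrder.BG4.exists_critical_exponent hp2 (hS.to_le hH)
  by_cases hc : IsMulCommutative Q
  · exact abelian_false hS hF hp5 hrank3 hnotE hess hrk hQ hQp hQf hc
  refine extraspecial_false hS hF hp5 hrank3 hess hQ hQp hQf hc ?_
  have hle : Nat.card Q ≤ p ^ 3 := OddOrder.BG4.card_le_of_exponent hp2
    (fun q => Subtype.ext (hQp q q.2)) (OddOrder.BG4.pRankLE_subgroup Q hrk)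
  obtain ⟨n, hn⟩ := IsPGroup.iff_card.1 ((hS.to_le hH).to_subgroup Q)
  rw [hn] at hle ⊢
  have hn3 := (Nat.pow_le_pow_iff_right (Fact.out : p.Prime).one_lt).1 hle
  congr 1
  by_contra h3
  apply hc
  rcases (show n = 0 ∨ n = 1 ∨ n = 2 by omega) with rfl | rfl | rfl
  · haveI : Subsingleton Q := (Nat.card_eq_one_iff_unique.1 (by simpa using hn)).1
    exact ⟨⟨fun _ _ => Subsingleton.elim _ _⟩⟩
  · haveI : IsCyclic Q := isCyclic_of_prime_card (p := p) (by simpa using hn)
    exact IsCyclic.isMulCommutative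
  · exact IsPGroup.isMulCommutative_of_card_eq_prime_sq hn

end CfsgLib.FusionRankTwo
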