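import Cfsg.Agent.FusionEssential.Aut
import Cfsg.Agent.FusionEssential.GL2
import Mathlib.LinearAlgebra.Matrix.GeneralLinearGroup.Card

/-!
# Automorphism groups of elementary abelian groups of order `p²` with non-commuting `p`-elements

Such a group of automorphisms contains every automorphism of determinant one, in particular a torus
normalizing any of its subgroups of order `p`.
-/

set_option autoImplicit false

namespace CfsgLib.FusionRankTwo

open Matrix CfsgLib.FusionEssential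

variable {p : ℕ} [hp : Fact p.Prime]

/-- A `p`-subgroup of the automorphism group of an elementary abelian group of order `p²` is
generated by each of its nontrivial elements. -/
theorem eq_zpowers_of_pGroup {V : Type*} [Group V] [Finite V] (hc : ∀ a b : V, a * b = b * a)
    (hexp : ∀ a : V, a ^ p = 1) (hd : Nat.card V = p ^ 2) {K : Subgroup (MulAut V)}
    (hK : IsPGroup p K) {u : MulAut V} (huK : u ∈ K) (hu : u ≠ 1) : K = Subgroup.zpowers u := by
  obtain ⟨φ⟩ := exists_mulEquiv_fin_of_elementary hc hexp hd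
  have hinj : Function.Injective (autMatrix φ).toHomUnits := fun x y hxy =>
    autMatrix_injective φ (by simpa using congrArg Units.val hxy)
  obtain ⟨k, hk⟩ := IsPGroup.iff_card.1 hK
  have hdvd : p ^ k ∣ Nat.card (GL (Fin 2) (ZMod p)) := by
    have h := Subgroup.card_subgroup_dvd_card (K.map (autMatrix φ).toHomUnits)
    rw [Subgroup.card_map_of_injective hinj, hk] at h
    exact h
  have hk1 : k ≤ 1 := by
    by_contra h2
    have h3 : p ^ 2 ∣ (p ^ 2 - 1) * (p ^ 2 - p) := by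
      refine (pow_dvd_pow p (by omega : 2 ≤ k)).trans (hdvd.trans (dvd_of_eq ?_))
      rw [Matrix.card_GL_field, Fin.prod_univ_two]
      simp only [Fintype.card_eq_nat_card, Nat.card_zmod, Fin.val_zero, Fin.val_one, pow_zero,
        pow_one]
    have hp2 := hp.out.two_le
    have hsq : p ^ 2 - p = p * (p - 1) := by rw [Nat.mul_sub, mul_one, sq]
    have hcop : Nat.Coprime p (p ^ 2 - 1) := by
      rw [hp.out.coprime_iff_not_dvd]
      intro h
      have h1 : p ∣ p ^ 2 := dvd_pow_self p two_ne_zero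
      have h4 : p ∣ p ^ 2 - (p ^ 2 - 1) := Nat.dvd_sub h1 h
      rw [Nat.sub_sub_self (Nat.one_le_pow _ _ hp.out.pos)] at h4
      exact hp.out.ne_one (Nat.dvd_one.1 h4)
    have h5 := (hcop.pow_left 2).dvd_of_dvd_mul_left h3
    rw [hsq, sq] at h5
    have h6 := Nat.le_of_dvd (by omega) ((Nat.mul_dvd_mul_iff_left hp.out.pos).1 h5)
    omega
  refine (Subgroup.eq_of_le_of_card_ge (Subgroup.zpowers_le.2 huK) ?_).symm
  rw [hk]
  refine (Nat.pow_le_pow_right hp.out.pos hk1).trans ?_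
  rw [pow_one, Nat.card_zpowers]
  have hdvd' : orderOf u ∣ p ^ k := hk ▸ (Subgroup.orderOf_mk u huK ▸ orderOf_dvd_natCard _)
  obtain ⟨j, -, hj⟩ := (Nat.dvd_prime_pow hp.out).1 hdvd'
  rw [hj]
  refine Nat.le_self_pow (fun h0 => hu ?_) p
  rw [h0, pow_zero, orderOf_eq_one_iff] at hj
  exact hj

/-- The torus adapted to a nontrivial element of order `p`. -/
theorem exists_torus {A V : Type*} [Group A] [Group V] [Finite V]
    (hc : ∀ a b : V, a * b = b * a) (hexp : ∀ a : V, a ^ p = 1) (hd : Nat.card V = p ^ 2)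
    (ψ : A →* MulAut V) {a b : A} {i j k : ℕ} (ha : ψ a ^ p ^ i = 1) (hb : ψ b ^ p ^ j = 1)
    (hne : ψ a * ψ b ≠ ψ b * ψ a) {u : A} (hu : ψ u ^ p ^ k = 1) (hu1 : ψ u ≠ 1) :
    ∃ e f : V, e ≠ 1 ∧ f ∉ Subgroup.zpowers e ∧ ψ u e = e ∧ ψ u f = f * e ∧
      (∀ v, ∃ r s : ℕ, v = e ^ r * f ^ s) ∧
      ∀ l m : ℕ, (l : ZMod p) * m = 1 →
        ∃ t : A, ψ t e = e ^ l ∧ ψ t f = f ^ m ∧ ψ (t * u) = ψ u ^ (l * l) * ψ t := by
  obtain ⟨φ⟩ := exists_mulEquiv_fin_of_elementary hc hexp hd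
  set ρ := (autMatrix φ).toHomUnits with hρdef
  have hρ : Function.Injective ρ := fun x y hxy =>
    autMatrix_injective φ (by simpa [hρdef] using congrArg Units.val hxy)
  obtain ⟨g, hg⟩ := exists_sl_two_le ((ρ.comp ψ).range) (u := ρ (ψ a)) (w := ρ (ψ b))
    ⟨a, rfl⟩ ⟨b, rfl⟩ (a := i) (b := j) (by rw [← map_pow, ha, map_one])
    (by rw [← map_pow, hb, map_one]) (fun h => hne (hρ (by simpa using h)))
  -- every matrix of determinant one is in the image
  have hsl : ∀ T : GL (Fin 2) (ZMod p), (T : Matrix (Fin 2) (Fin 2) (ZMod p)).det = 1 →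
      ∃ t : A, ρ (ψ t) = T := by
    intro T hT
    have hdet : ((g⁻¹ * T * g : GL (Fin 2) (ZMod p)) : Matrix (Fin 2) (Fin 2) (ZMod p)).det = 1 := by
      simp only [Units.val_mul, Matrix.det_mul, hT, mul_one]
      rw [← Matrix.det_mul, ← Units.val_mul, inv_mul_cancel, Units.val_one, Matrix.det_one]
    obtain ⟨t, ht⟩ := hg ⟨_, hdet⟩
    refine ⟨t, (show ρ (ψ t) = _ from ht).trans ?_⟩
    rw [show Matrix.SpecialLinearGroup.toGL ⟨_, hdet⟩ = g⁻¹ * T * g from Units.ext rfl]
    simp [mul_assoc]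
  set U : Matrix (Fin 2) (Fin 2) (ZMod p) :=
    ((ρ (ψ u) : GL (Fin 2) (ZMod p)) : Matrix (Fin 2) (Fin 2) (ZMod p)) with hU
  set N := U - 1 with hN
  have hnil : N ^ (p ^ k) = 0 := by
    rw [hN, sub_pow_char_pow_of_commute p k (Commute.one_right _), one_pow, hU,
      ← Units.val_pow_eq_pow_val, ← map_pow, hu, map_one, Units.val_one, sub_self]
  obtain ⟨hNN, -⟩ := sq_zero_of_nilpotent hnil
  have hN0 : N ≠ 0 := fun h => hu1 (hρ (Units.ext (by
    rw [map_one, Units.val_one]
    exact sub_eq_zero.1 h)))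
  obtain ⟨w, hw⟩ : ∃ w, N.mulVec w ≠ 0 := by
    by_contra h
    push Not at h
    exact hN0 (Matrix.ext_of_mulVec_single fun i => by rw [h, Matrix.zero_mulVec])
  set v := N.mulVec w with hv
  have hNv : N.mulVec v = 0 := by rw [hv, Matrix.mulVec_mulVec, hNN, Matrix.zero_mulVec]
  have hUv : U.mulVec v = v := by
    rw [show U = N + 1 by rw [hN, sub_add_cancel], Matrix.add_mulVec, hNv, Matrix.one_mulVec,
      zero_add]
  have hUw : U.mulVec w = w + v := by
    rw [show U = N + 1 by rw [hN, sub_add_cancel], Matrix.add_mulVec, Matrix.one_mulVec, ← hv,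
      add_comm]
  let G : Matrix (Fin 2) (Fin 2) (ZMod p) := Matrix.of fun r c => if c = 0 then v r else w r
  have hG : ∀ c : Fin 2 → ZMod p, G.mulVec c = c 0 • v + c 1 • w := fun c => by
    funext r
    simp [G, Matrix.mulVec, dotProduct, Fin.sum_univ_two, mul_comm]
  have hind : ∀ c : Fin 2 → ZMod p, c 0 • v + c 1 • w = 0 → c = 0 := by
    intro c h
    have h1 := congrArg N.mulVec h
    rw [Matrix.mulVec_add, Matrix.mulVec_smul, Matrix.mulVec_smul, hNv, smul_zero, zero_add, ← hv,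
      Matrix.mulVec_zero, smul_eq_zero, or_iff_left hw] at h1
    rw [h1, zero_smul, add_zero, smul_eq_zero, or_iff_left hw] at h
    funext r
    fin_cases r <;> assumption
  have hGdet : G.det ≠ 0 := by
    intro h
    obtain ⟨c, hc0, hc'⟩ := Matrix.exists_mulVec_eq_zero_iff.2 h
    exact hc0 (hind c ((hG c).symm.trans hc'))
  let P : GL (Fin 2) (ZMod p) := Matrix.GeneralLinearGroup.mkOfDetNeZero G hGdet
  let e := φ.symm (Multiplicative.ofAdd v)
  let f := φ.symm (Multiplicative.ofAdd w)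
  have happly : ∀ (t : A) (x : Fin 2 → ZMod p), ψ t (φ.symm (Multiplicative.ofAdd x)) =
      φ.symm (Multiplicative.ofAdd ((ρ (ψ t) : Matrix (Fin 2) (Fin 2) (ZMod p)).mulVec x)) := by
    intro t x
    rw [show (ρ (ψ t) : Matrix (Fin 2) (Fin 2) (ZMod p)) = autMatrix φ (ψ t) from rfl,
      autMatrix_mulVec, ofAdd_toAdd, MulEquiv.symm_apply_apply]
  have hpow : ∀ (x : Fin 2 → ZMod p) (n : ℕ), φ.symm (Multiplicative.ofAdd ((n : ZMod p) • x)) =
      φ.symm (Multiplicative.ofAdd x) ^ n := fun x n => by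
    rw [Nat.cast_smul_eq_nsmul, ofAdd_nsmul, map_pow]
  have hspan : ∀ x : V, ∃ r s : ℕ, x = e ^ r * f ^ s := by
    intro x
    obtain ⟨c, hc'⟩ : ∃ c, G.mulVec c = (φ x).toAdd :=
      ⟨((P⁻¹ : GL (Fin 2) (ZMod p)) : Matrix (Fin 2) (Fin 2) (ZMod p)).mulVec (φ x).toAdd, by
        rw [Matrix.mulVec_mulVec, show G = (P : Matrix (Fin 2) (Fin 2) (ZMod p)) from rfl,
          ← Units.val_mul, mul_inv_cancel, Units.val_one, Matrix.one_mulVec]⟩
    refine ⟨(c 0).val, (c 1).val, φ.injective ?_⟩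
    rw [hG] at hc'
    simp only [e, f, map_mul, map_pow, MulEquiv.apply_symm_apply]
    apply Multiplicative.toAdd.injective
    rw [toAdd_mul, toAdd_pow, toAdd_pow, toAdd_ofAdd, toAdd_ofAdd, ← hc',
      ← Nat.cast_smul_eq_nsmul (ZMod p), ← Nat.cast_smul_eq_nsmul (ZMod p), ZMod.natCast_zmod_val,
      ZMod.natCast_zmod_val]
  have he1 : e ≠ 1 := fun h => hw (by
    have := congrArg (fun y => (φ y).toAdd) h
    simpa [e] using this)
  have hue : ψ u e = e := by rw [happly u v]; exact congrArg _ (congrArg _ hUv)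
  have huf : ψ u f = f * e := by
    rw [happly u w, show (ρ (ψ u) : Matrix (Fin 2) (Fin 2) (ZMod p)).mulVec w = w + v from hUw,
      ofAdd_add, map_mul]
  refine ⟨e, f, he1, fun hf => he1 ?_, hue, huf, hspan, ?_⟩
  · obtain ⟨n, hn⟩ := Subgroup.mem_zpowers_iff.1 hf
    have := huf
    rw [← hn, map_zpow, hue] at this
    exact left_eq_mul.1 this
  intro l m hlm
  let D : Matrix (Fin 2) (Fin 2) (ZMod p) := !![(l : ZMod p), 0; 0, (m : ZMod p)]
  have hD : D.det = 1 := by simp [D, Matrix.det_fin_two, hlm]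
  let DG : GL (Fin 2) (ZMod p) := Matrix.SpecialLinearGroup.toGL ⟨D, hD⟩
  have hdetT : ((P * DG * P⁻¹ : GL (Fin 2) (ZMod p)) : Matrix (Fin 2) (Fin 2) (ZMod p)).det = 1 := by
    rw [Units.val_mul, Units.val_mul, Matrix.det_mul_comm, ← Matrix.mul_assoc, ← Units.val_mul,
      inv_mul_cancel, Units.val_one, one_mul]
    exact hD
  obtain ⟨t, ht⟩ := hsl _ hdetT
  have htP : (ρ (ψ t) : Matrix (Fin 2) (Fin 2) (ZMod p)) * G = G * D := by
    rw [ht, show G = (P : Matrix (Fin 2) (Fin 2) (ZMod p)) from rfl, ← Units.val_mul,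
      show P * DG * P⁻¹ * P = P * DG by group, Units.val_mul]
    rfl
  have hTv : ∀ c : Fin 2 → ZMod p,
      (ρ (ψ t) : Matrix (Fin 2) (Fin 2) (ZMod p)).mulVec (G.mulVec c) = G.mulVec (D.mulVec c) :=
    fun c => by rw [Matrix.mulVec_mulVec, htP, Matrix.mulVec_mulVec]
  have hte : ψ t e = e ^ l := by
    rw [happly t v, ← hpow v l]
    refine congrArg _ (congrArg _ ?_)
    have := hTv ![1, 0]
    simpa [hG, D, Matrix.mulVec, dotProduct, Fin.sum_univ_two] using this
  have htf : ψ t f = f ^ m := by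
    rw [happly t w, ← hpow w m]
    refine congrArg _ (congrArg _ ?_)
    have := hTv ![0, 1]
    simpa [hG, D, Matrix.mulVec, dotProduct, Fin.sum_univ_two] using this
  refine ⟨t, hte, htf, MulEquiv.ext fun x => ?_⟩
  have hue' : ∀ n : ℕ, (ψ u ^ n) e = e := fun n => by
    induction n with
    | zero => rfl
    | succ n ih => rw [pow_succ, MulAut.mul_apply, hue, ih]
  have huf' : ∀ n : ℕ, (ψ u ^ n) f = f * e ^ n := fun n => by
    induction n with
    | zero => simp
    | succ n ih => rw [pow_succ, MulAut.mul_apply, huf, map_mul, ih, hue', mul_assoc, ← pow_succ]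
  obtain ⟨r, s, rfl⟩ := hspan x
  have h1 : ψ (t * u) e = (ψ u ^ (l * l) * ψ t) e := by
    rw [map_mul, MulAut.mul_apply, MulAut.mul_apply, hue, hte, map_pow, hue']
  have h2 : ψ (t * u) f = (ψ u ^ (l * l) * ψ t) f := by
    rw [map_mul, MulAut.mul_apply, MulAut.mul_apply, huf, map_mul, hte, htf, map_pow, huf',
      Commute.mul_pow (hc _ _), ← pow_mul]
    congr 1
    rw [pow_eq_pow_iff_modEq]
    refine Nat.ModEq.of_dvd (orderOf_dvd_of_pow_eq_one (hexp e)) ?_
    rw [← ZMod.natCast_eq_natCast_iff]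
    push_cast
    linear_combination (-(l : ZMod p)) * hlm
  rw [map_mul, map_pow, map_pow, h1, h2, map_mul, map_pow, map_pow]

end CfsgLib.FusionRankTwo
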